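import Cfsg.Agent.H774.P9.Grp
import Cfsg.Agent.H629.T9.Defs
import Cfsg.Agent.Lib.Cores

/-!
# `|P| = 9`, free action of order eight: `k(B₀) ∈ {6, 9}` (helper774)
-/

set_option autoImplicit false

open Cfsg Subgroup
open scoped ComplexConjugate

namespace Cfsg.Agent.H774.P9

universe u

theorem index_core {C : Type*} [Group C] [Finite C] {p : ℕ} [hp : Fact p.Prime] (h : HasNormalPComplement p C) :
    ∃ k : ℕ, (pPrimeCore p C).index = p ^ k := by
  obtain ⟨N, hN, h1, k, h2⟩ := OddOrderLocal.NilpotentQuotient.exists_of_hasNormalPComplement h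
  have hle : N ≤ pPrimeCore p C :=
    Lib.Cores.le_pPrimeCore hN ((Nat.Prime.coprime_iff_not_dvd hp.out).2 h1).symm
  have h3 : (pPrimeCore p C).index ∣ p ^ k := by
    rw [← h2]
    exact index_dvd_of_le hle
  obtain ⟨j, -, hj⟩ := (Nat.dvd_prime_pow hp.out).1 h3
  exact ⟨j, hj⟩

section nine

variable {G : Type u} [Group G] [Finite G] {P : Sylow 3 G} (hP : Nat.card P = 9)

/-- orbits of the normalizer on `P` -/
theorem orbit_ncard {x : G} (hx : x ∈ P)
    (hfree : ∀ g ∈ normalizer ((P : Subgroup G) : Set G), g ∉ centralizer ((P : Subgroup G) : Set G) →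
      g * x * g⁻¹ ≠ x) :
    {y : G | ∃ n ∈ normalizer ((P : Subgroup G) : Set G), n * x * n⁻¹ = y}.ncard =
      (centralizer ((P : Subgroup G) : Set G)).relIndex (normalizer ((P : Subgroup G) : Set G)) := by
  set N := normalizer ((P : Subgroup G) : Set G) with hN
  let act : MulAction N G := MulAction.compHom G ((MulAut.conj : G →* MulAut G).comp N.subtype)
  have hsmul : ∀ (n : N) (y : G), n • y = (n : G) * y * (n : G)⁻¹ := fun n y => rfl
  have h1 : (MulAction.stabilizer N x) = (centralizer ((P : Subgroup G) : Set G)).subgroupOf N := by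
    ext n
    rw [MulAction.mem_stabilizer_iff, hsmul, mem_subgroupOf]
    constructor
    · intro h
      by_contra hn
      exact hfree n n.2 hn h
    · intro h
      rw [(mem_centralizer_iff.1 h x hx).symm, mul_inv_cancel_right]
  have h2 : {y : G | ∃ n ∈ N, n * x * n⁻¹ = y} = MulAction.orbit N x := by
    ext y
    rw [MulAction.mem_orbit_iff]
    constructor
    · rintro ⟨n, hn, h⟩
      exact ⟨⟨n, hn⟩, h⟩
    · rintro ⟨n, h⟩
      exact ⟨n, n.2, h⟩
  rw [h2, ← MulAction.index_stabilizer, h1]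
  rfl

include hP

/-- transitivity for order eight -/
theorem trans_of_eight (h8 : (centralizer ((P : Subgroup G) : Set G)).relIndex
      (normalizer ((P : Subgroup G) : Set G)) = 8)
    (hfree : ∀ g ∈ normalizer ((P : Subgroup G) : Set G), g ∉ centralizer ((P : Subgroup G) : Set G) →
      ∀ x ∈ P, x ≠ 1 → g * x * g⁻¹ ≠ x) {x y : G} (hx : x ∈ P) (hx1 : x ≠ 1) (hy : y ∈ P) (hy1 : y ≠ 1) :
    ∃ n ∈ normalizer ((P : Subgroup G) : Set G), n * x * n⁻¹ = y := by
  have h1 := orbit_ncard hx (fun g hg hgC => hfree g hg hgC x hx hx1)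
  rw [h8] at h1
  set O := {y : G | ∃ n ∈ normalizer ((P : Subgroup G) : Set G), n * x * n⁻¹ = y} with hO
  have h2 : O ⊆ ((P : Subgroup G) : Set G) \ {1} := by
    rintro z ⟨n, hn, rfl⟩
    refine ⟨(mem_normalizer_iff.1 hn x).1 hx, fun h => hx1 ?_⟩
    exact conj_eq_one_iff.1 h
  have h3 : (((P : Subgroup G) : Set G) \ {1}).ncard = 8 := by
    rw [Set.ncard_sdiff_singleton_of_mem (one_mem (P : Subgroup G))]
    have : ((P : Subgroup G) : Set G).ncard = 9 := hP
    omega
  have h4 : O = ((P : Subgroup G) : Set G) \ {1} :=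
    Set.eq_of_subset_of_ncard_le h2 (by rw [h1, h3]) (Set.toFinite _)
  have h5 : y ∈ O := by rw [h4]; exact ⟨hy, hy1⟩
  exact h5

end nine

/-- values at elements of order three are Eisenstein integers -/
theorem eis_value {G : Type u} [Group G] [Finite G] {w : ℂ} (hw : w ^ 2 + w + 1 = 0) {u : G} (hu3 : u ^ 3 = 1)
    (ζ : IrrCharacter G) : Eis w ((ζ : G → ℂ) u) := by
  classical
  obtain ⟨H, hH⟩ : ∃ H : Subgroup G, H = centralizer ({u} : Set G) := ⟨_, rfl⟩
  have := Fintype.ofFinite H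
  have := Characters.Core.finite_irr (G := H)
  have := Fintype.ofFinite (IrrCharacter H)
  obtain ⟨n, e, hE⟩ := H613.ContribVal.exists_exp (u := u) (H := H) hH hu3
  have h := hE.expand ζ 1 1
  rw [pow_one, OneMemClass.coe_one, mul_one] at h
  rw [h]
  refine Eis.sum _ _ fun ξ _ => ?_
  have h7 := (eis_of_cube hw (hE.root ξ)).int_mul ((n ζ ξ : ℤ) * (charDegree (ξ : H → ℂ) : ℤ))
  rw [Blocks.Basic.irr_one_eq_charDegree ξ.2]
  have h8 : (((n ζ ξ : ℤ) * (charDegree (ξ : H → ℂ) : ℤ) : ℤ) : ℂ) * e ξ =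
    (n ζ ξ : ℂ) * e ξ ^ 1 * (charDegree (ξ : H → ℂ) : ℂ) := by push_cast; ring
  rwa [h8] at h7

/-- the centralizers of nontrivial `3`-elements are `3`-nilpotent if the action is free -/
theorem compl_of_free {G : Type u} [Group G] [Finite G] {P : Sylow 3 G} (hP : Nat.card P = 9)
    (hfree : ∀ g ∈ normalizer ((P : Subgroup G) : Set G), g ∉ centralizer ((P : Subgroup G) : Set G) →
      ∀ x ∈ P, x ≠ 1 → g * x * g⁻¹ ≠ x) {x : G} (hx : x ∈ P) (hx1 : x ≠ 1) :
    HasNormalPComplement 3 ↥(centralizer ({x} : Set G)) := by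
  have hp3 : Fact (Nat.Prime 3) := ⟨Nat.prime_three⟩
  set H := centralizer ({x} : Set G) with hH
  have hPH : (P : Subgroup G) ≤ H := le_cent hP hx
  let Q : Sylow 3 H := P.subtype hPH
  have hQ : (Q : Subgroup H) = (P : Subgroup G).subgroupOf H := rfl
  have hle : normalizer ((Q : Subgroup H) : Set H) ≤ centralizer ((Q : Subgroup H) : Set H) := by
    intro n hn
    have hnN : (n : G) ∈ normalizer ((P : Subgroup G) : Set G) := by
      rw [mem_normalizer_iff]
      intro y
      constructor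
      · intro hy
        have := (mem_normalizer_iff.1 hn ⟨y, hPH hy⟩).1 (by rw [hQ, mem_subgroupOf]; exact hy)
        rw [hQ, mem_subgroupOf] at this
        exact this
      · intro hy
        have h1 : y = (n : G)⁻¹ * ((n : G) * y * (n : G)⁻¹) * n := by group
        have hyH : y ∈ H := by
          rw [h1]
          exact H.mul_mem (H.mul_mem (H.inv_mem n.2) (hPH hy)) n.2
        have := (mem_normalizer_iff.1 hn ⟨y, hyH⟩).2 (by
          rw [hQ, mem_subgroupOf]
          exact hy)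
        rw [hQ, mem_subgroupOf] at this
        exact this
    by_contra hnC
    have hnC' : (n : G) ∉ centralizer ((P : Subgroup G) : Set G) := by
      intro h
      apply hnC
      rw [mem_centralizer_iff]
      intro y hy
      apply Subtype.ext
      have hy' : (y : G) ∈ (P : Subgroup G) := by
        rw [SetLike.mem_coe, hQ, mem_subgroupOf] at hy
        exact hy
      exact mem_centralizer_iff.1 h (y : G) hy'
    apply hfree (n : G) hnN hnC' x hx hx1
    have h1 := mem_centralizer_singleton_iff.1 n.2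
    rw [h1, mul_inv_cancel_right]
  exact ⟨Q, _, inferInstance, MonoidHom.ker_transferSylow_isComplement' Q hle⟩

/-- **ARITH**: free action of order eight. -/
theorem arith {G : Type u} [Group G] [Finite G] {M : Ideal AlgInt} (hM : IsPModular 3 M) {P : Sylow 3 G}
    (hF : H629.T9.Free8 (P : Subgroup G)) :
    (Nat.card (principalBlock M G) = 6 ∨ Nat.card (principalBlock M G) = 9) ∧
      (Nat.card (principalBlock M G) = 6 ↔ ∃ χ : IrrCharacter G, χ ∈ principalBlock M G ∧
        (charDegree (χ : G → ℂ) % 9 = 2 ∨ charDegree (χ : G → ℂ) % 9 = 7)) := by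
  classical
  have hp3 : Fact (Nat.Prime 3) := ⟨Nat.prime_three⟩
  have hMp := Cfsg.Agent.Blocks.Local.isPrime_of_isPModular hM
  have := Fintype.ofFinite G
  have := Characters.Core.finite_irr (G := G)
  have := Fintype.ofFinite (IrrCharacter G)
  have hP : Nat.card P = 9 := hF.card
  have hc : ¬ IsCyclic P := hF.nc
  obtain ⟨u, hu, hu1⟩ : ∃ u ∈ P, u ≠ 1 := by
    by_contra hcon
    push Not at hcon
    have h1 : (P : Subgroup G) = ⊥ := by
      rw [eq_bot_iff]
      exact fun y hy => mem_bot.2 (hcon y hy)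
    have h2 : Nat.card (P : Subgroup G) = 9 := hP
    rw [h1, card_bot] at h2
    norm_num at h2
  have htr := fun {x y : G} (hx : x ∈ P) (hx1 : x ≠ 1) (hy : y ∈ P) (hy1 : y ≠ 1) =>
    trans_of_eight hP hF.ind (fun g hg hgC x hx hx1 => hF.free g hg hgC x hx hx1) hx hx1 hy hy1
  have hu3 : u ^ 3 = 1 := cube9 hP hc hu
  have hou : orderOf u = 3 := order9 hP hc hu hu1
  have huk : ∃ k : ℕ, orderOf u = 3 ^ k := ⟨1, by rw [hou, pow_one]⟩
  -- values
  obtain ⟨w, hw, hw1⟩ := exists_root
  have hint : ∀ ζ : IrrCharacter G, ∃ v : ℤ, (ζ : G → ℂ) u = v := by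
    intro ζ
    refine int_of_real hw1 (eis_value hw hu3 ζ) ?_
    obtain ⟨n, -, hn⟩ := htr hu hu1 (inv_mem hu) (inv_ne_one.2 hu1)
    rw [← Characters.Core.isCharacter_apply_inv (Characters.Core.isIrr_isCharacter ζ.2), ← hn]
    exact (Characters.Core.isIrr_isClassFunction ζ.2 u n).symm
  choose v hv using hint
  have hconst : ∀ (ζ : IrrCharacter G), ∀ x ∈ P, x ≠ 1 → (ζ : G → ℂ) x = v ζ := by
    intro ζ x hx hx1
    obtain ⟨n, -, hn⟩ := htr hu hu1 hx hx1
    rw [← hn, Characters.Core.isIrr_isClassFunction ζ.2 u n, hv]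
  -- the degree modulo nine
  have hdeg : ∀ ζ : IrrCharacter G, (charDegree (ζ : G → ℂ) : ℤ) ≡ v ζ [ZMOD 9] := by
    intro ζ
    have := Fintype.ofFinite (P : Subgroup G)
    have h1 : IsCharacter (P : Subgroup G) (fun y : (P : Subgroup G) => (ζ : G → ℂ) y) :=
      Characters.Core.isCharacter_comp (P : Subgroup G).subtype (Characters.Core.isIrr_isCharacter ζ.2)
    obtain ⟨n, hn⟩ := Characters.Core.classInner_isNat h1
      (Characters.Core.isIrr_isCharacter (Blocks.Basic.isIrrCharacter_one (G := (P : Subgroup G))))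
    unfold classInner at hn
    rw [hP] at hn
    simp only [map_one, mul_one] at hn
    rw [← Finset.add_sum_erase _ _ (Finset.mem_univ (1 : (P : Subgroup G)))] at hn
    have h2 : ∑ y ∈ Finset.univ.erase (1 : (P : Subgroup G)), (ζ : G → ℂ) (y : G) = 8 * (v ζ : ℂ) := by
      have hcs : ∀ y ∈ Finset.univ.erase (1 : (P : Subgroup G)), (ζ : G → ℂ) (y : G) = (v ζ : ℂ) :=
        fun y hy => hconst ζ y y.2 fun h => (Finset.mem_erase.1 hy).1 (Subtype.ext h)
      rw [Finset.sum_congr rfl hcs]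
      rw [Finset.sum_const, Finset.card_erase_of_mem (Finset.mem_univ _), Finset.card_univ,
        ← Nat.card_eq_fintype_card, hP]
      simp
    rw [h2, OneMemClass.coe_one, Blocks.Basic.irr_one_eq_charDegree ζ.2] at hn
    have h3 : ((charDegree (ζ : G → ℂ) : ℤ) : ℂ) + 8 * (v ζ : ℂ) = 9 * ((n : ℤ) : ℂ) := by
      push_cast at hn ⊢
      rw [← hn]
      field_simp
    have h4 : (charDegree (ζ : G → ℂ) : ℤ) + 8 * v ζ = 9 * n := by exact_mod_cast h3
    unfold Int.ModEq
    omega
  -- the sum of squares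
  set S := (principalBlock M G).toFinset with hS
  have hScard : S.card = Nat.card (principalBlock M G) := by
    rw [Nat.card_eq_fintype_card, Set.toFinset_card]
  have hsum : ∑ ζ ∈ S, v ζ ^ 2 = 9 := by
    have h1 := Blocks.PrincipalSection.sum_principalBlock_section hM u huk
      (H := centralizer ({u} : Set G)) rfl 1 1 (by rw [orderOf_one]; norm_num) (by rw [orderOf_one]; norm_num)
    rw [Blocks.PrincipalSection.sum_principalBlock_of_pComplement hM
      (index_core (compl_of_free hP (fun g hg hgC x hx hx1 => hF.free g hg hgC x hx hx1) hu hu1))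
      (by rw [orderOf_one]; norm_num) (by rw [orderOf_one]; norm_num),
      fact_of_le hP (le_cent hP hu), finsum_mem_eq_toFinset_sum, ← hS] at h1
    have h2 : ∀ ζ ∈ S, (ζ : G → ℂ) (u * ((1 : centralizer ({u} : Set G)) : G)) *
        conj ((ζ : G → ℂ) (u * ((1 : centralizer ({u} : Set G)) : G))) = ((v ζ ^ 2 : ℤ) : ℂ) := by
      intro ζ _
      rw [OneMemClass.coe_one, mul_one, hv, map_intCast]
      push_cast
      ring
    rw [Finset.sum_congr rfl h2] at h1
    have h3 : ((∑ ζ ∈ S, v ζ ^ 2 : ℤ) : ℂ) = ((9 : ℤ) : ℂ) := by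
      rw [Int.cast_sum, h1]
      norm_num
    exact_mod_cast h3
  have hne : ∀ ζ ∈ S, v ζ ≠ 0 := by
    intro ζ hζ h0
    have h1 : SameBlock M (fun _ : G => (1 : ℂ)) (ζ : G → ℂ) := Set.mem_toFinset.1 hζ
    have h2 := h1 u
    unfold centralChar at h2
    rw [hv ζ, h0, Int.cast_zero, mul_zero, zero_div, sub_zero, div_one, mul_one,
      Blocks.Local.memLocalIdeal_natCast_iff hM] at h2
    exact P.not_dvd_index (h2.trans (index_dvd_of_le (le_cent hP hu)))
  have htrm : tr G ∈ S := Set.mem_toFinset.2 Blocks.PrincipalSection.one_mem_principalBlock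
  have hvtr : v (tr G) = 1 := by
    have h1 := hv (tr G)
    have h2 : ((1 : ℤ) : ℂ) = ((v (tr G) : ℤ) : ℂ) := by rw [← h1]; push_cast; rfl
    exact_mod_cast h2.symm
  have h14 : ∀ ζ ∈ S, v ζ ^ 2 = 1 ∨ v ζ ^ 2 = 4 := by
    intro ζ hζ
    by_cases hζt : ζ = tr G
    · left; rw [hζt, hvtr]; norm_num
    have h1 : v ζ ^ 2 ≤ 8 := by
      have h2 := Finset.add_sum_erase S (fun ζ => v ζ ^ 2) htrm
      have h3 : v ζ ^ 2 ≤ ∑ ζ ∈ S.erase (tr G), v ζ ^ 2 :=
        Finset.single_le_sum (f := fun ζ => v ζ ^ 2) (fun i _ => sq_nonneg _) (Finset.mem_erase.2 ⟨hζt, hζ⟩)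
      simp only [hvtr] at h2
      rw [hsum] at h2
      omega
    have h2 : -3 < v ζ := by nlinarith
    have h3 : v ζ < 3 := by nlinarith
    have h4 := hne ζ hζ
    interval_cases (v ζ) <;> simp_all
  set T := S.filter fun ζ => v ζ ^ 2 = 4 with hT
  have hST : (S.card : ℤ) + 3 * T.card = 9 := by
    rw [← hsum, hT, Finset.card_filter, Finset.card_eq_sum_ones]
    push_cast
    rw [Finset.mul_sum, ← Finset.sum_add_distrib]
    refine Finset.sum_congr rfl fun ζ hζ => ?_
    rcases h14 ζ hζ with h | h <;> rw [h] <;> norm_num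
  have h6 : 6 ≤ S.card := by
    have h7 := H774.K0.six_le_card (p := 3) (by norm_num) hM (G := G)
      (show 3 ^ 2 ∣ Nat.card G from (dvd_of_eq hP.symm).trans (card_subgroup_dvd_card (P : Subgroup G)))
    have h8 : Nat.card {χ : IrrCharacter G // χ ∈ principalBlock M G ∧ ¬ 3 ∣ charDegree (χ : G → ℂ)} ≤
        Nat.card (principalBlock M G) :=
      Set.ncard_le_ncard (s := {χ : IrrCharacter G | χ ∈ principalBlock M G ∧ ¬ 3 ∣ charDegree (χ : G → ℂ)})
        (fun χ hχ => hχ.1) (Set.toFinite _)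
    omega
  have hmod : ∀ ζ ∈ S, (v ζ ^ 2 = 4 ↔ (charDegree (ζ : G → ℂ) % 9 = 2 ∨ charDegree (ζ : G → ℂ) % 9 = 7)) := by
    intro ζ hζ
    have h1 := hdeg ζ
    unfold Int.ModEq at h1
    have h2 : v ζ = 1 ∨ v ζ = -1 ∨ v ζ = 2 ∨ v ζ = -2 := by
      rcases h14 ζ hζ with h | h
      · have : v ζ ≤ 1 := by nlinarith
        have : -1 ≤ v ζ := by nlinarith
        have := hne ζ hζ
        omega
      · have : v ζ ≤ 2 := by nlinarith
        have : -2 ≤ v ζ := by nlinarith
        interval_cases (v ζ) <;> simp_all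
    rcases h2 with h | h | h | h <;> rw [h] at h1 ⊢ <;> norm_num at h1 ⊢ <;> omega
  rw [← hScard]
  refine ⟨by omega, ?_⟩
  constructor
  · intro h
    have hT1 : 0 < T.card := by omega
    obtain ⟨ζ, hζ⟩ := Finset.card_pos.1 hT1
    have hζ' := Finset.mem_filter.1 hζ
    exact ⟨ζ, Set.mem_toFinset.1 hζ'.1, (hmod ζ hζ'.1).1 hζ'.2⟩
  · rintro ⟨ζ, hζ, hζd⟩
    have hζS : ζ ∈ S := Set.mem_toFinset.2 hζ
    have hT1 : 0 < T.card := Finset.card_pos.2 ⟨ζ, Finset.mem_filter.2 ⟨hζS, (hmod ζ hζS).2 hζd⟩⟩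
    omega

end Cfsg.Agent.H774.P9
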