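import Cfsg.Agent.H774.P9.Eight
import Cfsg.Agent.S4709
import Cfsg.Agent.H634.TwoA

/-!
# `|P| = 9`: the final equivalence of S4876 (helper774)
-/

set_option autoImplicit false
set_option linter.unusedSectionVars false

open Cfsg Subgroup

namespace Cfsg.Agent.H774.P9

open Cfsg.Agent.H629.T9

universe u

section gen

variable {G : Type u} [Group G] [Finite G] {P : Sylow 3 G}

/-- the normalizer acts freely on `P` -/
def Fr (P : Subgroup G) : Prop :=
  ∀ g ∈ normalizer (P : Set G), g ∉ centralizer (P : Set G) → ∀ x ∈ P, x ≠ 1 → g * x * g⁻¹ ≠ x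

theorem ker_iff (P : Subgroup G) (n : normalizer (P : Set G)) : P.normalizerMonoidHom n = 1 ↔
    (n : G) ∈ centralizer (P : Set G) := by
  rw [← MonoidHom.mem_ker, Subgroup.normalizerMonoidHom_ker, mem_subgroupOf]

theorem card_range (P : Subgroup G) : Nat.card P.normalizerMonoidHom.range =
    (centralizer (P : Set G)).relIndex (normalizer (P : Set G)) := by
  rw [← Subgroup.index_ker, Subgroup.normalizerMonoidHom_ker]
  rfl

theorem act_coe (P : Subgroup G) (n : normalizer (P : Set G)) (y : P) :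
    ((P.normalizerMonoidHom n y : P) : G) = n * y * (n : G)⁻¹ := rfl

theorem cycE_of_isCyclic (P : Subgroup G) (h : IsCyclic P.normalizerMonoidHom.range) : CycE P := by
  obtain ⟨⟨_, ⟨g, rfl⟩⟩, hσ⟩ := h.exists_generator
  refine ⟨g, g.2, fun h hh => ?_⟩
  set n : normalizer (P : Set G) := ⟨h, hh⟩
  have h1 := hσ ⟨P.normalizerMonoidHom n, ⟨n, rfl⟩⟩
  rw [← mem_powers_iff_mem_zpowers] at h1
  obtain ⟨i, hi⟩ := h1
  have h2 : P.normalizerMonoidHom g ^ i = P.normalizerMonoidHom n := congrArg Subtype.val hi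
  refine ⟨i, (g : G)⁻¹ ^ i * h, ?_, by rw [inv_pow, mul_inv_cancel_left]⟩
  have h3 : P.normalizerMonoidHom (g⁻¹ ^ i * n) = 1 := by
    rw [map_mul, map_pow, map_inv, ← h2, inv_pow, inv_mul_cancel]
  exact (ker_iff P _).1 h3

theorem sup_of_cycE (P : Subgroup G) (h : CycE P) : ∃ g : G, g ∈ normalizer (P : Set G) ∧
    centralizer (P : Set G) ⊔ zpowers g = normalizer (P : Set G) := by
  obtain ⟨g, hg, h⟩ := h
  refine ⟨g, hg, le_antisymm (sup_le (centralizer_le_normalizer _) (zpowers_le.2 hg)) fun y hy => ?_⟩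
  obtain ⟨i, c, hc, rfl⟩ := h y hy
  exact mul_mem ((le_sup_right : zpowers g ≤ _) (pow_mem (mem_zpowers g) i)) ((le_sup_left : centralizer _ ≤ _) hc)

/-- a generator modulo the centralizer -/
theorem orderOf_gen (P : Subgroup G) {g : G} (hg : g ∈ normalizer (P : Set G))
    (h : ∀ h ∈ normalizer (P : Set G), ∃ i : ℕ, ∃ c ∈ centralizer (P : Set G), h = g ^ i * c) :
    orderOf (P.normalizerMonoidHom ⟨g, hg⟩) =
      (centralizer (P : Set G)).relIndex (normalizer (P : Set G)) := by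
  rw [← card_range, ← Nat.card_zpowers]
  congr 1
  have : zpowers (P.normalizerMonoidHom ⟨g, hg⟩) = P.normalizerMonoidHom.range := by
    apply le_antisymm
    · rw [zpowers_le]; exact ⟨_, rfl⟩
    · rintro _ ⟨n, rfl⟩
      obtain ⟨i, c, hc, hi⟩ := h n n.2
      have h1 : n = (⟨g, hg⟩ : normalizer (P : Set G)) ^ i * ⟨c, centralizer_le_normalizer _ hc⟩ := Subtype.ext hi
      rw [h1, map_mul, map_pow, (ker_iff P ⟨c, centralizer_le_normalizer _ hc⟩).2 hc, mul_one]
      exact pow_mem (mem_zpowers _) i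
  rw [this]

end gen

section nine

variable {G : Type u} [Group G] [Finite G] {P : Sylow 3 G} (hP : Nat.card P = 9)

include hP

/-- `|N(P) : C(P)|` divides `8` if the action is free -/
theorem dvd_eight (hf : Fr (P : Subgroup G)) : (centralizer ((P : Subgroup G) : Set G)).relIndex
      (normalizer ((P : Subgroup G) : Set G)) ∣ 8 := by
  set φ := (P : Subgroup G).normalizerMonoidHom with hφ
  let X := {y : (P : Subgroup G) // y ≠ 1}
  let act : MulAction φ.range X :=
    { smul := fun e y => ⟨(e : MulAut (P : Subgroup G)) y.1, fun h => y.2 (by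
        have h1 := congrArg (e : MulAut (P : Subgroup G)).symm h
        rwa [MulEquiv.symm_apply_apply, map_one] at h1)⟩
      one_smul := fun y => rfl
      mul_smul := fun a b y => rfl }
  have hst : ∀ b : X, MulAction.stabilizer φ.range b = ⊥ := by
    rintro ⟨y, hy⟩
    rw [eq_bot_iff]
    rintro ⟨_, ⟨n, rfl⟩⟩ he
    rw [MulAction.mem_stabilizer_iff] at he
    have h1 : φ n y = y := congrArg Subtype.val he
    have h2 : (n : G) * y * (n : G)⁻¹ = y := by rw [← act_coe, ← hφ, h1]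
    rw [mem_bot]
    apply Subtype.ext
    change φ n = 1
    rw [hφ, ker_iff]
    by_contra hn
    exact hf n n.2 hn y y.2 (fun h => hy (Subtype.ext h)) h2
  have h1 := Nat.card_congr (MulAction.selfEquivOrbitsQuotientProd hst)
  rw [Nat.card_prod, card_range] at h1
  have h2 : Nat.card X = 8 := by
    have h3 : Nat.card X = ({1}ᶜ : Set (P : Subgroup G)).ncard := rfl
    rw [h3, Set.ncard_compl, Set.ncard_singleton, hP]
  rw [← h2, h1]
  exact dvd_mul_left _ _

/-- involutions are inversions -/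
theorem inv_of_fr (hf : Fr (P : Subgroup G)) {g : G} (hg : g ∈ normalizer ((P : Subgroup G) : Set G))
    (hgC : g ∉ centralizer ((P : Subgroup G) : Set G)) (hgg : g * g ∈ centralizer ((P : Subgroup G) : Set G))
    {x : G} (hx : x ∈ P) : g * x * g⁻¹ = x⁻¹ := by
  have hgx : g * x * g⁻¹ ∈ P := (mem_normalizer_iff.1 hg x).1 hx
  have h1 : g * g * x = x * (g * g) := (mem_centralizer_iff.1 hgg x hx).symm
  have h2 : g * (g * x * g⁻¹) * g⁻¹ = x := by
    calc g * (g * x * g⁻¹) * g⁻¹ = g * g * x * (g * g)⁻¹ := by group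
      _ = x := by rw [h1, mul_inv_cancel_right]
  have h3 : g * (x * (g * x * g⁻¹)) * g⁻¹ = x * (g * x * g⁻¹) := by
    calc g * (x * (g * x * g⁻¹)) * g⁻¹ = (g * x * g⁻¹) * (g * (g * x * g⁻¹) * g⁻¹) := by group
      _ = (g * x * g⁻¹) * x := by rw [h2]
      _ = x * (g * x * g⁻¹) := comm9 hP hgx hx
  by_contra hne
  refine hf g hg hgC (x * (g * x * g⁻¹)) (mul_mem hx hgx) (fun h => hne ?_) h3
  exact eq_inv_of_mul_eq_one_right h

variable (hc : ¬ IsCyclic P)

theorem cycE_four (hf : Fr (P : Subgroup G)) (h4 : (centralizer ((P : Subgroup G) : Set G)).relIndex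
      (normalizer ((P : Subgroup G) : Set G)) = 4) : CycE (P : Subgroup G) := by
  set φ := (P : Subgroup G).normalizerMonoidHom with hφ
  apply cycE_of_isCyclic
  rw [← hφ]
  have hcard : Nat.card φ.range = 4 := by rw [hφ, card_range, h4]
  by_contra hcon
  have hsq : ∀ σ : φ.range, σ ^ 2 = 1 := by
    intro σ
    have h1 : orderOf σ ∣ 2 ^ 2 := by
      rw [show 2 ^ 2 = Nat.card φ.range by rw [hcard]; norm_num]
      exact orderOf_dvd_natCard σ
    obtain ⟨k, hk, hk'⟩ := (Nat.dvd_prime_pow Nat.prime_two).1 h1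
    interval_cases k
    · rw [← orderOf_dvd_iff_pow_eq_one, hk']; norm_num
    · rw [← orderOf_dvd_iff_pow_eq_one, hk']; norm_num
    · exact absurd (isCyclic_of_orderOf_eq_card σ (by rw [hk', hcard]; norm_num)) hcon
  -- all nontrivial elements are the inversion
  have hinv : ∀ σ : φ.range, σ ≠ 1 → ∀ y : (P : Subgroup G), ((σ : MulAut (P : Subgroup G)) y : G) = (y : G)⁻¹ := by
    rintro ⟨_, ⟨n, rfl⟩⟩ hσ y
    rw [act_coe]
    have hn : (n : G) ∉ centralizer ((P : Subgroup G) : Set G) := by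
      rw [← ker_iff]
      intro h
      exact hσ (Subtype.ext h)
    have hnn : (n : G) * n ∈ centralizer ((P : Subgroup G) : Set G) := by
      have h1 := congrArg Subtype.val (hsq ⟨φ n, ⟨n, rfl⟩⟩)
      have h2 : φ (n * n) = 1 := by
        rw [map_mul, ← pow_two]
        exact h1
      exact (ker_iff _ _).1 h2
    exact inv_of_fr hP hf n.2 hn hnn y.2
  have h2 : Nat.card φ.range ≤ 2 := by
    classical
    have hinj : Function.Injective (fun σ : φ.range => decide (σ = 1)) := by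
      intro σ τ h
      simp only [decide_eq_decide] at h
      by_cases h1 : σ = 1
      · rw [h1, h.1 h1]
      · have h3 : τ ≠ 1 := fun h3 => h1 (h.2 h3)
        apply Subtype.ext
        apply MulEquiv.ext
        intro y
        apply Subtype.ext
        rw [hinv σ h1, hinv τ h3]
    have := Nat.card_le_card_of_injective _ hinj
    simpa using this
  omega

include hc

/-- squares do not fix nontrivial elements -/
theorem sq_fix {g : G} (hg : g ∈ normalizer ((P : Subgroup G) : Set G)) {x : G} (hx : x ∈ P) (hx1 : x ≠ 1)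
    (hgx : g ^ 2 * x * (g ^ 2)⁻¹ = x) : g ^ 2 ∈ centralizer ((P : Subgroup G) : Set G) := by
  by_contra hcon
  obtain ⟨v, hv, hvx, hgv⟩ := exists_inverted hP hc (pow_mem hg 2) hx hx1 hgx hcon
  have hv1 : v ≠ 1 := fun h => hvx (h ▸ one_mem _)
  have hcomm : x * v = v * x := comm9 hP hx hv
  have hv' : g * v * g⁻¹ ∈ P := (mem_normalizer_iff.1 hg v).1 hv
  obtain ⟨c, d, hcd⟩ := mem_sup_zp (x := x) (w := v) hcomm (y := g * v * g⁻¹) (by
    rw [sup_eq hP hc hx hx1 hv hvx]; exact hv')
  have hconj : ∀ a b : G, g ^ 2 * (a * b) * (g ^ 2)⁻¹ = (g ^ 2 * a * (g ^ 2)⁻¹) * (g ^ 2 * b * (g ^ 2)⁻¹) :=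
    fun a b => by group
  have h1 : g ^ 2 * (g * v * g⁻¹) * (g ^ 2)⁻¹ = (g * v * g⁻¹)⁻¹ := by
    have : g ^ 2 * (g * v * g⁻¹) * (g ^ 2)⁻¹ = g * (g ^ 2 * v * (g ^ 2)⁻¹) * g⁻¹ := by
      simp only [pow_two, mul_inv_rev, mul_assoc]
    rw [this, hgv]
    group
  have h2 : g ^ 2 * (g * v * g⁻¹) * (g ^ 2)⁻¹ = x ^ c * v ^ (-d) := by
    rw [hcd, hconj, ← conj_zpow, ← conj_zpow, hgx, hgv, inv_zpow, zpow_neg]
  have h3 : (g * v * g⁻¹)⁻¹ = x ^ (-c) * v ^ (-d) := by
    rw [hcd, mul_inv_rev, ← zpow_neg, ← zpow_neg]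
    exact (((show Commute x v from hcomm).zpow_left (-c)).zpow_right (-d)).eq.symm
  have h4 : x ^ c = x ^ (-c) := by
    have := h2.symm.trans (h1.trans h3)
    exact mul_right_cancel this
  have hox : (orderOf x : ℤ) = 3 := by rw [order9 hP hc hx hx1]; rfl
  have hov : (orderOf v : ℤ) = 3 := by rw [order9 hP hc hv hv1]; rfl
  have h5 : x ^ c = 1 := by
    have h6 : x ^ (c + c) = 1 := by
      rw [zpow_add]
      nth_rw 2 [h4]
      rw [← zpow_add]
      simp
    rw [← orderOf_dvd_iff_zpow_eq_one, hox] at h6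
    rw [← orderOf_dvd_iff_zpow_eq_one, hox]
    omega
  rw [h5, one_mul] at hcd
  have h7 : g ^ 2 * v * (g ^ 2)⁻¹ = v ^ (d * d) := by
    have : g ^ 2 * v * (g ^ 2)⁻¹ = g * (g * v * g⁻¹) * g⁻¹ := by
      simp only [pow_two, mul_inv_rev, mul_assoc]
    rw [this, hcd, ← conj_zpow, hcd, ← zpow_mul]
  rw [hgv] at h7
  have h8 : v ^ (d * d + 1) = 1 := by
    rw [zpow_add, ← h7, zpow_one, inv_mul_cancel]
  rw [← orderOf_dvd_iff_zpow_eq_one, hov] at h8
  have h9 : d % 3 = 0 ∨ d % 3 = 1 ∨ d % 3 = 2 := by omega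
  have h10 : (d * d + 1) % 3 = 0 := Int.emod_eq_zero_of_dvd h8
  rw [Int.add_emod, Int.mul_emod] at h10
  rcases h9 with h | h | h <;> rw [h] at h10 <;> norm_num at h10

/-- a cyclic group of order four acts freely -/
theorem fr_of_four (h4 : (centralizer ((P : Subgroup G) : Set G)).relIndex
      (normalizer ((P : Subgroup G) : Set G)) = 4) (hcy : CycE (P : Subgroup G)) : Fr (P : Subgroup G) := by
  intro h hh hhC x hx hx1 hfix
  obtain ⟨g, hg, hgen⟩ := hcy
  have ho := orderOf_gen (P : Subgroup G) hg hgen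
  rw [h4] at ho
  have hsq : ∀ y : G, y * x * y⁻¹ = x → y ^ 2 * x * (y ^ 2)⁻¹ = x := by
    intro y hy
    have : y ^ 2 * x * (y ^ 2)⁻¹ = y * (y * x * y⁻¹) * y⁻¹ := by
      simp only [pow_two, mul_inv_rev, mul_assoc]
    rw [this, hy, hy]
  have hh2 := sq_fix hP hc hh hx hx1 (hsq h hfix)
  obtain ⟨i, c, hcC, hi⟩ := hgen h hh
  set φ := (P : Subgroup G).normalizerMonoidHom with hφ
  set n : normalizer ((P : Subgroup G) : Set G) := ⟨g, hg⟩ with hn
  have h1 : φ ⟨h, hh⟩ = φ n ^ i := by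
    have h2 : (⟨h, hh⟩ : normalizer ((P : Subgroup G) : Set G)) =
        n ^ i * ⟨c, centralizer_le_normalizer _ hcC⟩ := Subtype.ext hi
    rw [h2, map_mul, map_pow, (ker_iff (P : Subgroup G) ⟨c, centralizer_le_normalizer _ hcC⟩).2 hcC, mul_one]
  have h2 : φ n ^ (i * 2) = 1 := by
    rw [pow_mul, ← h1, ← map_pow, ker_iff]
    exact hh2
  have h3 : 4 ∣ i * 2 := by
    rw [← ho]
    exact orderOf_dvd_of_pow_eq_one h2
  obtain ⟨j, rfl⟩ : ∃ j, i = 2 * j := ⟨i / 2, by omega⟩
  -- `g ^ j` squared acts as `h`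
  have h5 : φ (n ^ j) ^ 2 = φ ⟨h, hh⟩ := by
    rw [h1, map_pow, ← pow_mul, mul_comm]
  have h6 : (g ^ j) ^ 2 * x * ((g ^ j) ^ 2)⁻¹ = x := by
    have h7 := congrArg (fun σ : MulAut (P : Subgroup G) => ((σ ⟨x, hx⟩ : (P : Subgroup G)) : G)) h5
    rw [← map_pow] at h7
    exact h7.trans hfix
  have h7 := sq_fix hP hc (pow_mem hg j) hx hx1 h6
  apply hhC
  have h8 : φ ⟨h, hh⟩ = 1 := by
    rw [← h5, ← map_pow, ker_iff]
    exact h7
  exact (ker_iff _ _).1 h8

omit hc in
/-- from the condition on involutions to freeness -/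
theorem fr_of_inv (hc : ¬ IsCyclic P) (h8 : (centralizer ((P : Subgroup G) : Set G)).relIndex
      (normalizer ((P : Subgroup G) : Set G)) = 8)
    (hinv : ∀ g ∈ normalizer ((P : Subgroup G) : Set G), g * g ∈ centralizer ((P : Subgroup G) : Set G) →
      g ∈ centralizer ((P : Subgroup G) : Set G) ∨ ∀ x ∈ (P : Subgroup G), g * x * g⁻¹ = x⁻¹) :
    Fr (P : Subgroup G) := by
  intro h hh hhC x hx hx1 hfix
  set φ := (P : Subgroup G).normalizerMonoidHom with hφ
  set n : normalizer ((P : Subgroup G) : Set G) := ⟨h, hh⟩ with hn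
  have h1 : orderOf (φ n) ∣ 2 ^ 3 := by
    have h2 : orderOf (⟨φ n, ⟨_, rfl⟩⟩ : φ.range) ∣ Nat.card φ.range := orderOf_dvd_natCard _
    rw [card_range, h8, ← Subgroup.orderOf_coe] at h2
    exact h2
  obtain ⟨k, -, hk⟩ := (Nat.dvd_prime_pow Nat.prime_two).1 h1
  rcases k with _ | k
  · apply hhC
    have h2 : φ n = 1 := orderOf_eq_one_iff.1 (by simpa using hk)
    exact (ker_iff _ _).1 h2
  · have h2 : φ (n ^ (2 ^ k)) ≠ 1 := by
      intro h3
      rw [map_pow] at h3
      have h4 := orderOf_dvd_of_pow_eq_one h3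
      rw [hk] at h4
      have h5 := Nat.le_of_dvd (by positivity) h4
      have h6 : 2 ^ k < 2 ^ (k + 1) := Nat.pow_lt_pow_right (by norm_num) (by omega)
      omega
    have h3 : φ (n ^ (2 ^ k) * n ^ (2 ^ k)) = 1 := by
      rw [← pow_add, map_pow, ← two_mul, ← pow_succ', ← hk]
      exact pow_orderOf_eq_one _
    have h4 : ∀ j : ℕ, h ^ j * x * (h ^ j)⁻¹ = x := by
      intro j
      induction j with
      | zero => simp
      | succ j ih =>
        have : h ^ (j + 1) * x * (h ^ (j + 1))⁻¹ = h ^ j * (h * x * h⁻¹) * (h ^ j)⁻¹ := by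
          simp only [pow_succ, mul_inv_rev, mul_assoc]
        rw [this, hfix, ih]
    rcases hinv (h ^ (2 ^ k)) (pow_mem hh _) ((ker_iff _ _).1 h3) with h5 | h5
    · exact h2 ((ker_iff _ _).2 h5)
    · have h6 := h5 x hx
      rw [h4] at h6
      have h7 : x ^ 2 = 1 := by
        rw [pow_two]
        nth_rw 2 [h6]
        exact mul_inv_cancel x
      have h8 := orderOf_dvd_of_pow_eq_one h7
      rw [order9 hP hc hx hx1] at h8
      norm_num at h8

end nine

theorem six_le {G : Type u} [Group G] [Finite G] {M : Ideal AlgInt} (hM : IsPModular 3 M) {P : Sylow 3 G}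
    (hP : Nat.card P = 9) : 6 ≤ Nat.card (principalBlock M G) := by
  have := Characters.Core.finite_irr (G := G)
  have h7 := H774.K0.six_le_card (p := 3) (by norm_num) hM (G := G)
    (show 3 ^ 2 ∣ Nat.card G from (dvd_of_eq hP.symm).trans (card_subgroup_dvd_card (P : Subgroup G)))
  have h8 : Nat.card {χ : IrrCharacter G // χ ∈ principalBlock M G ∧ ¬ 3 ∣ charDegree (χ : G → ℂ)} ≤
      Nat.card (principalBlock M G) :=
    Set.ncard_le_ncard (s := {χ : IrrCharacter G | χ ∈ principalBlock M G ∧ ¬ 3 ∣ charDegree (χ : G → ℂ)})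
      (fun χ hχ => hχ.1) (Set.toFinite _)
  omega

/-- `E = 1` -/
theorem nine_le_of_one {G : Type u} [Group G] [Finite G] {M : Ideal AlgInt} (hM : IsPModular 3 M) {P : Sylow 3 G}
    (hP : Nat.card P = 9) (h1 : (centralizer ((P : Subgroup G) : Set G)).relIndex
      (normalizer ((P : Subgroup G) : Set G)) = 1) : 9 ≤ Nat.card (principalBlock M G) := by
  classical
  have hp3 : Fact (Nat.Prime 3) := ⟨Nat.prime_three⟩
  have := Fintype.ofFinite G
  have hle : normalizer ((P : Subgroup G) : Set G) ≤ centralizer ((P : Subgroup G) : Set G) := relIndex_eq_one.1 h1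
  have hab : IsMulCommutative P := IsPGroup.isMulCommutative_of_card_eq_prime_sq (p := 3) (by rw [hP]; norm_num)
  set S : Finset G := ((P : Subgroup G) : Set G).toFinset with hS
  have hmem : ∀ x, x ∈ S ↔ x ∈ P := fun x => by rw [hS, Set.mem_toFinset]; rfl
  have h2 := H634.TwoA.sum_rank_le hM S
    (fun x hx => by
      obtain ⟨k, hk⟩ := (IsPGroup.iff_orderOf.1 P.2) ⟨x, (hmem x).1 hx⟩
      exact ⟨k, by rwa [Subgroup.orderOf_mk] at hk⟩)
    (fun x hx y hy hxy => by
      obtain ⟨g, hg⟩ := isConj_iff.1 hxy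
      have hx' := (hmem x).1 hx
      obtain ⟨n, hn, h3⟩ := Sylow.conj_eq_normalizer_conj_of_mem P x g⁻¹ hx' (by
        rw [inv_inv, hg]
        exact (hmem y).1 hy)
      rw [inv_inv, hg] at h3
      have h4 := mem_centralizer_iff.1 (hle hn) x hx'
      rw [h3, mul_assoc, h4, ← mul_assoc, inv_mul_cancel, one_mul])
  refine le_trans ?_ h2
  have h3 : S.card = 9 := by
    rw [hS, Set.toFinset_card, ← Nat.card_eq_fintype_card]
    exact hP
  calc 9 = ∑ x ∈ S, 1 := by rw [Finset.sum_const, h3]; norm_num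
    _ ≤ _ := Finset.sum_le_sum fun x _ => H634.Cols.blockRank_pos (G := ↥(centralizer ({x} : Set G))) (p := 3) hM

/-- `E` of order `2` or `4`, cyclic and free -/
theorem le_six_of_cyc {G : Type u} [Group G] [Finite G] {M : Ideal AlgInt} (hM : IsPModular 3 M) {P : Sylow 3 G}
    (hP : Nat.card P = 9) {m : ℕ} (hm : m = 2 ∨ m = 4) (h1 : (centralizer ((P : Subgroup G) : Set G)).relIndex
      (normalizer ((P : Subgroup G) : Set G)) = m) (hcy : CycE (P : Subgroup G)) (hf : Fr (P : Subgroup G)) :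
    Nat.card (principalBlock M G) = 6 := by
  have hp3 : Fact (Nat.Prime 3) := ⟨Nat.prime_three⟩
  have := Characters.Core.finite_irr (G := G)
  have hab : IsMulCommutative P := IsPGroup.isMulCommutative_of_card_eq_prime_sq (p := 3) (by rw [hP]; norm_num)
  obtain ⟨s, X, Y, hs, hXY, -, hX, hY, -⟩ := S4709.result 3 M hM P hab (by rw [hP]; norm_num) m
    (by rcases hm with rfl | rfl <;> norm_num) (by rw [hP]; rcases hm with rfl | rfl <;> norm_num) h1
    (sup_of_cycE _ hcy) (fun y hy hy1 => by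
      apply le_antisymm
      · rintro g ⟨hg1, hg2⟩
        by_contra hgC
        refine hf g hg2 hgC y hy hy1 ?_
        have h2 := mem_centralizer_singleton_iff.1 hg1
        rw [h2, mul_inv_cancel_right]
      · intro g hg
        exact ⟨mem_centralizer_singleton_iff.2 (mem_centralizer_iff.1 hg y hy).symm,
          centralizer_le_normalizer _ hg⟩)
  have h6 := six_le hM hP
  have h2 : Nat.card (principalBlock M G) ≤ Nat.card X + Nat.card Y := by
    rw [hXY]
    exact Set.ncard_union_le X Y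
  rw [hX, hY, hP] at h2
  rcases hm with rfl | rfl <;> omega

/-- the cyclic case -/
theorem cyclic_iff {G : Type u} [Group G] [Finite G] {M : Ideal AlgInt} (hM : IsPModular 3 M) {P : Sylow 3 G}
    (hP : Nat.card P = 9) (hc : IsCyclic P) : Nat.card (principalBlock M G) = 6 ↔
      (centralizer ((P : Subgroup G) : Set G)).relIndex (normalizer ((P : Subgroup G) : Set G)) = 2 := by
  have hp3 : Fact (Nat.Prime 3) := ⟨Nat.prime_three⟩
  have := Characters.Core.finite_irr (G := G)
  obtain ⟨hd, -, X, Y, hXY, hdis, hX, hY, -⟩ := cyc_principal hM P hc 2 (by norm_num) (by rw [hP]; norm_num) _ rfl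
  set e := (centralizer ((P : Subgroup G) : Set G)).relIndex (normalizer ((P : Subgroup G) : Set G)) with he
  have h2 : Nat.card (principalBlock M G) = Nat.card X + Nat.card Y := by
    rw [hXY]
    exact Set.ncard_union_eq hdis (Set.toFinite _) (Set.toFinite _)
  rw [hX, hY] at h2
  rcases (Nat.dvd_prime Nat.prime_two).1 (show e ∣ 2 from hd) with h | h
  · rw [h2, h]; norm_num
  · rw [h2, h]; norm_num

/-- **The case `|P| = 9` of S4876**, given the free case of order eight. -/
theorem nine_iff {G : Type u} [Group G] [Finite G] {M : Ideal AlgInt} (hM : IsPModular 3 M) (P : Sylow 3 G)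
    (hP : Nat.card P = 9) (hrow : Free8 (P : Subgroup G) → Concl M (P : Subgroup G)) :
    Nat.card (Cfsg.principalBlock M G) = 6 ↔ ((IsCyclic (P : Subgroup G) ∧ Nat.card (P : Subgroup G) = 9 ∧ (Subgroup.centralizer ((P : Subgroup G) : Set G)).relIndex (Subgroup.normalizer ((P : Subgroup G) : Set G)) = 2) ∨ (¬ IsCyclic (P : Subgroup G) ∧ Nat.card (P : Subgroup G) = 9 ∧ (((Subgroup.centralizer ((P : Subgroup G) : Set G)).relIndex (Subgroup.normalizer ((P : Subgroup G) : Set G)) = 4 ∧ (∃ g ∈ (Subgroup.normalizer ((P : Subgroup G) : Set G)), ∀ h ∈ (Subgroup.normalizer ((P : Subgroup G) : Set G)), ∃ i : ℕ, ∃ c ∈ (Subgroup.centralizer ((P : Subgroup G) : Set G)), h = g ^ i * c)) ∨ ((Subgroup.centralizer ((P : Subgroup G) : Set G)).relIndex (Subgroup.normalizer ((P : Subgroup G) : Set G)) = 8 ∧ ¬ (∃ g ∈ (Subgroup.normalizer ((P : Subgroup G) : Set G)), ∀ h ∈ (Subgroup.normalizer ((P : Subgroup G) : Set G)), ∃ i : ℕ, ∃ c ∈ (Subgroup.centralizer ((P : Subgroup G) : Set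 G)), h = g ^ i * c) ∧ (∀ g ∈ (Subgroup.normalizer ((P : Subgroup G) : Set G)), g * g ∈ (Subgroup.centralizer ((P : Subgroup G) : Set G)) → g ∈ (Subgroup.centralizer ((P : Subgroup G) : Set G)) ∨ ∀ x ∈ (P : Subgroup G), g * x * g⁻¹ = x⁻¹)) ∨ ((Subgroup.centralizer ((P : Subgroup G) : Set G)).relIndex (Subgroup.normalizer ((P : Subgroup G) : Set G)) = 2 ∧ (∀ g ∈ (Subgroup.normalizer ((P : Subgroup G) : Set G)), g ∉ (Subgroup.centralizer ((P : Subgroup G) : Set G)) → ∀ x ∈ (P : Subgroup G), x ≠ 1 → g * x * g⁻¹ ≠ x))))) := by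
  have hp3 : Fact (Nat.Prime 3) := ⟨Nat.prime_three⟩
  by_cases hc : IsCyclic P
  · rw [cyclic_iff hM hP hc]
    constructor
    · intro h
      exact Or.inl ⟨hc, hP, h⟩
    · rintro (⟨-, -, h⟩ | ⟨h, -⟩)
      · exact h
      · exact absurd hc h
  · set e := (centralizer ((P : Subgroup G) : Set G)).relIndex (normalizer ((P : Subgroup G) : Set G)) with he
    constructor
    · intro h6
      have hf : Fr (P : Subgroup G) := by
        intro g hg hgC x hx hx1 hfix
        exact ne_six_of_fix hP hc hM hg hx hx1 hfix hgC h6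
      right
      refine ⟨hc, hP, ?_⟩
      obtain ⟨k, hk, hk'⟩ := (Nat.dvd_prime_pow Nat.prime_two).1 (show e ∣ 2 ^ 3 from dvd_eight hP hf)
      interval_cases k
      · exfalso
        have := nine_le_of_one hM hP (by rw [← he, hk']; norm_num)
        omega
      · right; right
        exact ⟨by rw [hk']; norm_num, hf⟩
      · left
        have he4 : e = 4 := by rw [hk']; norm_num
        exact ⟨he4, cycE_four hP hf he4⟩
      · right; left
        have he8 : e = 8 := by rw [hk']; norm_num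
        have hF : Free8 (P : Subgroup G) := ⟨hP, hc, he8, hf⟩
        refine ⟨he8, (hrow hF).1 h6, fun g hg hgg => ?_⟩
        by_cases hgC : g ∈ centralizer ((P : Subgroup G) : Set G)
        · exact Or.inl hgC
        · exact Or.inr fun x hx => inv_of_fr hP hf hg hgC hgg hx
    · rintro (⟨h, -⟩ | ⟨-, -, ⟨h4, hcy⟩ | ⟨h8, hncy, hinv⟩ | ⟨h2, hf⟩⟩)
      · exact absurd h hc
      · exact le_six_of_cyc hM hP (Or.inr rfl) h4 hcy (fr_of_four hP hc h4 hcy)
      · have hf := fr_of_inv hP hc h8 hinv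
        exact (hrow ⟨hP, hc, h8, hf⟩).2 hncy
      · refine le_six_of_cyc hM hP (Or.inl rfl) h2 ?_ hf
        apply cycE_of_isCyclic
        have h3 : Nat.card (P : Subgroup G).normalizerMonoidHom.range = 2 := by rw [card_range]; exact h2
        have hp2 : Fact (Nat.Prime 2) := ⟨Nat.prime_two⟩
        exact isCyclic_of_prime_card h3

end Cfsg.Agent.H774.P9
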