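import Mathlib

/-!
# Integral quadratic forms for `k(B₀) = 6`, `|P| = 9` (helper774, after helper617)
-/

set_option autoImplicit false

namespace Cfsg.Agent.H774.P9

/-- rows of norm one -/
theorem row_one {a b : ℤ} (h : a ^ 2 - a * b + b ^ 2 = 1) : a ^ 2 ≤ 1 ∧ b ^ 2 ≤ 1 ∧ 0 ≤ a * b := by
  have ha : a ^ 2 ≤ 1 := by nlinarith [sq_nonneg (a - 2 * b)]
  have hb : b ^ 2 ≤ 1 := by nlinarith [sq_nonneg (b - 2 * a)]
  refine ⟨ha, hb, ?_⟩
  have h1 : -1 ≤ a := by nlinarith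
  have h2 : a ≤ 1 := by nlinarith
  have h3 : -1 ≤ b := by nlinarith
  have h4 : b ≤ 1 := by nlinarith
  interval_cases a <;> interval_cases b <;> simp_all

/-- rows of norm four -/
theorem row_four {a b : ℤ} (h : a ^ 2 - a * b + b ^ 2 = 4) : a = 0 ∨ b = 0 ∨ a * b = 4 := by
  have h1 : -3 < a := by nlinarith [sq_nonneg (a - 2 * b)]
  have h2 : a < 3 := by nlinarith [sq_nonneg (a - 2 * b)]
  have h3 : -3 < b := by nlinarith [sq_nonneg (b - 2 * a)]
  have h4 : b < 3 := by nlinarith [sq_nonneg (b - 2 * a)]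
  interval_cases a <;> interval_cases b <;> simp_all

/-- the form is congruent to `1` modulo `3` and positive -/
theorem row_mod {a b : ℤ} (h : ¬ (3 : ℤ) ∣ a + b) :
    (a ^ 2 - a * b + b ^ 2) % 3 = 1 ∧ 1 ≤ a ^ 2 - a * b + b ^ 2 := by
  have h0 : 0 ≤ a ^ 2 - a * b + b ^ 2 := by nlinarith [sq_nonneg (a - b), sq_nonneg (a + b), sq_nonneg a, sq_nonneg b]
  have h1 : (a ^ 2 - a * b + b ^ 2) % 3 = 1 := by
    have h2 : (a + b) % 3 = 1 ∨ (a + b) % 3 = 2 := by
      have : (a + b) % 3 ≠ 0 := fun h3 => h (Int.dvd_of_emod_eq_zero h3)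
      omega
    have h3 : a ^ 2 - a * b + b ^ 2 = (a + b) * (a + b) - 3 * (a * b) := by ring
    rw [h3, Int.sub_mul_emod_self_left, Int.mul_emod]
    rcases h2 with h2 | h2 <;> rw [h2] <;> rfl
  exact ⟨h1, by omega⟩

theorem six {ι : Type*} (s : Finset ι) (hs : s.card = 6) (a b : ι → ℤ) (ha : ∑ i ∈ s, a i ^ 2 = 6)
    (hb : ∑ i ∈ s, b i ^ 2 = 6) (hab : ∑ i ∈ s, a i * b i = 3) (h3 : ∀ i ∈ s, ¬ (3 : ℤ) ∣ a i + b i) : False := by
  classical
  set f : ι → ℤ := fun i => a i ^ 2 - a i * b i + b i ^ 2 with hf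
  have hsum : ∑ i ∈ s, f i = 9 := by
    simp only [hf, Finset.sum_add_distrib, Finset.sum_sub_distrib]
    rw [ha, hb, hab]
    norm_num
  have hm : ∀ i ∈ s, f i % 3 = 1 ∧ 1 ≤ f i := fun i hi => row_mod (h3 i hi)
  obtain ⟨j, hj, hj1⟩ : ∃ j ∈ s, f j ≠ 1 := by
    by_contra hcon
    push Not at hcon
    rw [Finset.sum_congr rfl hcon] at hsum
    simp [hs] at hsum
  have hj4 : 4 ≤ f j := by
    have := hm j hj
    omega
  have herase : (s.erase j).card = 5 := by rw [Finset.card_erase_of_mem hj, hs]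
  have hsplit := Finset.add_sum_erase s f hj
  have hle : (5 : ℤ) ≤ ∑ i ∈ s.erase j, f i := by
    calc (5 : ℤ) = ∑ i ∈ s.erase j, (1 : ℤ) := by simp [herase]
      _ ≤ _ := Finset.sum_le_sum fun i hi => (hm i (Finset.mem_of_mem_erase hi)).2
  have hj4' : f j = 4 := by omega
  have h1 : ∀ i ∈ s.erase j, f i = 1 := by
    have h5 : ∑ i ∈ s.erase j, f i = 5 := by omega
    have h6 : ∑ i ∈ s.erase j, (f i - 1) = 0 := by
      rw [Finset.sum_sub_distrib, h5]
      simp [herase]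
    intro i hi
    have h7 := (Finset.sum_eq_zero_iff_of_nonneg (fun i hi => by
      have := (hm i (Finset.mem_of_mem_erase hi)).2
      omega)).1 h6 i hi
    omega
  have hA := Finset.add_sum_erase s (fun i => a i ^ 2) hj
  have hB := Finset.add_sum_erase s (fun i => b i ^ 2) hj
  have hC := Finset.add_sum_erase s (fun i => a i * b i) hj
  have hA5 : ∑ i ∈ s.erase j, a i ^ 2 ≤ 5 := by
    calc _ ≤ ∑ i ∈ s.erase j, (1 : ℤ) := Finset.sum_le_sum fun i hi => (row_one (h1 i hi)).1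
      _ = 5 := by simp [herase]
  have hB5 : ∑ i ∈ s.erase j, b i ^ 2 ≤ 5 := by
    calc _ ≤ ∑ i ∈ s.erase j, (1 : ℤ) := Finset.sum_le_sum fun i hi => (row_one (h1 i hi)).2.1
      _ = 5 := by simp [herase]
  have hC0 : 0 ≤ ∑ i ∈ s.erase j, a i * b i :=
    Finset.sum_nonneg fun i hi => (row_one (h1 i hi)).2.2
  rcases row_four hj4' with h | h | h
  · simp only [h] at hA
    rw [ha] at hA
    norm_num at hA
    omega
  · simp only [h] at hB
    rw [hb] at hB
    norm_num at hB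
    omega
  · simp only [h] at hC
    rw [hab] at hC
    omega

/-- **the arithmetic of (1a)** -/
theorem six_sign {ι : Type*} (s : Finset ι) (hs : s.card = 6) (a b : ι → ℤ) {e : ℤ} (he : e = 1 ∨ e = -1)
    (ha : ∑ i ∈ s, a i ^ 2 = 6) (hb : ∑ i ∈ s, b i ^ 2 = 6) (hab : ∑ i ∈ s, a i * b i = 3 * e)
    (h3 : ∀ i ∈ s, ¬ (3 : ℤ) ∣ a i + e * b i) : False := by
  have he2 : e ^ 2 = 1 := by rcases he with rfl | rfl <;> norm_num
  refine six s hs a (fun i => e * b i) ha ?_ ?_ h3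
  · simp only [mul_pow, he2, one_mul]
    exact hb
  · have : ∀ i, a i * (e * b i) = e * (a i * b i) := fun i => by ring
    simp only [this]
    rw [← Finset.mul_sum, hab]
    rcases he with rfl | rfl <;> norm_num

end Cfsg.Agent.H774.P9
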