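import Cfsg.Agent.H774.P9.Three
import Cfsg.Agent.S4640
import Cfsg.Agent.S0051
import Cfsg.Agent.H652.PairBasic
import Cfsg.Agent.H133.PB.Basic

/-!
# Central elements of order three, Sylow subgroups of order nine (helper774)
-/

set_option autoImplicit false

open Cfsg Subgroup
open scoped ComplexConjugate

namespace Cfsg.Agent.H774.P9

universe u

/-- The data of the principal block of the centralizer. -/
structure Data {H : Type u} [Group H] (M : Ideal AlgInt) (u : H) (θ : IrrCharacter H) (ε : ℤ) : Prop where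
  sgn : ε = 1 ∨ ε = -1
  lin : ∀ ξ ∈ principalBlock M H, ∃ a b : ℤ, ∀ y : H, ¬ 3 ∣ orderOf y →
    (ξ : H → ℂ) y = (a : ℂ) + (b : ℂ) * (θ : H → ℂ) y
  gram : ∀ y y' : H, ¬ 3 ∣ orderOf y → ¬ 3 ∣ orderOf y' →
    ∑ᶠ ξ ∈ principalBlock M H, (ξ : H → ℂ) y * conj ((ξ : H → ℂ) y') =
      3 * (2 + (ε : ℂ) * ((θ : H → ℂ) y + conj ((θ : H → ℂ) y')) + 2 * (θ : H → ℂ) y * conj ((θ : H → ℂ) y'))
  nconst : ∃ y : H, ¬ 3 ∣ orderOf y ∧ (θ : H → ℂ) y ≠ (θ : H → ℂ) 1
  deg : (charDegree (θ : H → ℂ) : ℤ) ≡ ε [ZMOD 3]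
  inv : ∀ σ : H ≃* H, σ u ∈ zpowers u → ∀ y : H, (θ : H → ℂ) (σ y) = (θ : H → ℂ) y

section

variable {H : Type u} [Group H] [Finite H] {u : H} (huc : ∀ g : H, u * g = g * u) {K : Subgroup H}
  (hK : IsComplement' K (zpowers u))

include huc

theorem zp_comm {z : H} (hz : z ∈ zpowers u) (g : H) : z * g = g * z := by
  obtain ⟨k, rfl⟩ := mem_zpowers_iff.1 hz
  exact ((show Commute u g from huc g).zpow_left k).eq

theorem zp_normal : (zpowers u).Normal := ⟨fun z hz g => by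
  rw [← zp_comm huc hz g, mul_assoc, mul_inv_cancel, mul_one]
  exact hz⟩

include hK

theorem normal_of_compl : K.Normal := by
  refine ⟨fun n hn g => ?_⟩
  obtain ⟨⟨⟨k, hk⟩, ⟨z, hz⟩⟩, rfl⟩ := hK.2 g
  change k * z * n * (k * z)⁻¹ ∈ K
  have h1 : k * z * n * (k * z)⁻¹ = k * n * k⁻¹ := by
    rw [mul_assoc k z n, zp_comm huc hz n, mul_inv_rev]
    group
  rw [h1]
  exact K.mul_mem (K.mul_mem hk hn) (K.inv_mem hk)

theorem mem_of_regular (hu : orderOf u = 3) {y : H} (hy : ¬ 3 ∣ orderOf y) : y ∈ K := by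
  have hn := normal_of_compl huc hK
  have hi : K.index = 3 := by rw [hK.symm.index_eq_card, Nat.card_zpowers, hu]
  rw [← QuotientGroup.eq_one_iff]
  have h1 : orderOf (y : H ⧸ K) ∣ orderOf y := orderOf_map_dvd (QuotientGroup.mk' K) y
  have h2 : orderOf (y : H ⧸ K) ∣ 3 := by
    rw [← hi]
    exact orderOf_dvd_natCard _
  have h3 : Nat.Coprime (orderOf y) 3 := ((Nat.Prime.coprime_iff_not_dvd Nat.prime_three).2 hy).symm
  exact orderOf_eq_one_iff.1 (Nat.eq_one_of_dvd_coprimes h3 h1 h2)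

/-- the projection with kernel `⟨u⟩` -/
theorem exists_proj : ∃ π : H →* K, Function.Surjective π ∧ (∀ k : K, π k = k) ∧
    (∀ z ∈ zpowers u, π z = 1) ∧ ∀ h : H, ∃ z ∈ zpowers u, h = z * (π h : H) := by
  have hn := zp_normal huc
  let π : H →* K := hK.QuotientMulEquiv.toMonoidHom.comp (QuotientGroup.mk' (zpowers u))
  have hπ : ∀ k : K, π k = k := by
    intro k
    change hK.QuotientMulEquiv (QuotientGroup.mk (k : H)) = k
    rw [← MulEquiv.eq_symm_apply]
    rfl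
  have hπ1 : ∀ z ∈ zpowers u, π z = 1 := by
    intro z hz
    change hK.QuotientMulEquiv (QuotientGroup.mk z) = 1
    rw [(QuotientGroup.eq_one_iff z).2 hz, map_one]
  refine ⟨π, fun k => ⟨k, hπ k⟩, hπ, hπ1, fun h => ?_⟩
  obtain ⟨⟨⟨k, hk⟩, ⟨z, hz⟩⟩, rfl⟩ := hK.2 h
  refine ⟨z, hz, ?_⟩
  change k * z = z * (π (k * z) : H)
  rw [map_mul, hπ1 z hz, mul_one]
  have h2 := hπ ⟨k, hk⟩
  rw [show ((⟨k, hk⟩ : K) : H) = k from rfl] at h2
  rw [h2]
  exact (zp_comm huc hz k).symm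

/-- normal complements go up -/
theorem compl_up (hu : orderOf u = 3) (h : HasNormalPComplement 3 K) : HasNormalPComplement 3 H := by
  have hp3 : Fact (Nat.Prime 3) := ⟨Nat.prime_three⟩
  have hi : K.index = 3 := by rw [hK.symm.index_eq_card, Nat.card_zpowers, hu]
  obtain ⟨N, hN, h1, k, h2⟩ := OddOrderLocal.NilpotentQuotient.exists_of_hasNormalPComplement h
  refine OddOrderLocal.NilpotentQuotient.hasNormalPComplement_of_index (N.map K.subtype) ?_ ?_ (k := k + 1) ?_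
  · refine ⟨fun n hn g => ?_⟩
    obtain ⟨m, hm, rfl⟩ := hn
    obtain ⟨⟨l, ⟨z, hz⟩⟩, rfl⟩ := hK.2 g
    change (l : H) * z * (m : H) * ((l : H) * z)⁻¹ ∈ _
    have h3 : (l : H) * z * (m : H) * ((l : H) * z)⁻¹ = ((l * m * l⁻¹ : K) : H) := by
      rw [mul_assoc (l : H) z (m : H), zp_comm huc hz (m : H), mul_inv_rev]
      push_cast
      group
    rw [h3]
    exact ⟨_, hN.conj_mem m hm l, rfl⟩
  · rwa [Nat.card_congr (N.equivMapOfInjective _ K.subtype_injective).symm.toEquiv]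
  · rw [Subgroup.index_map_subtype, h2, hi, pow_succ]

end

/-- **The principal block of a group with a central element of order three.** -/
theorem exists_data {H : Type u} [Group H] [Finite H] {M : Ideal AlgInt} (hM : IsPModular 3 M) {u : H}
    (hu : orderOf u = 3) (huc : ∀ g : H, u * g = g * u) {K : Subgroup H} (hK : IsComplement' K (zpowers u))
    (h9 : (Nat.card H).factorization 3 = 2) (hnil : ¬ HasNormalPComplement 3 H) :
    ∃ (θ : IrrCharacter H) (ε : ℤ), Data M u θ ε := by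
  classical
  have hp3 : Fact (Nat.Prime 3) := ⟨Nat.prime_three⟩
  have hMp := Cfsg.Agent.Blocks.Local.isPrime_of_isPModular hM
  have := Fintype.ofFinite H
  have := Fintype.ofFinite K
  have := Characters.Core.finite_irr (G := H)
  have := Characters.Core.finite_irr (G := K)
  have hn := normal_of_compl huc hK
  have hi : K.index = 3 := by rw [hK.symm.index_eq_card, Nat.card_zpowers, hu]
  -- Sylow subgroups
  obtain ⟨P⟩ : Nonempty (Sylow 3 H) := inferInstance
  have hP : Nat.card P = 3 ^ 2 := by rw [P.card_eq_multiplicity, h9]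
  have hPab := IsPGroup.commutative_of_card_eq_prime_sq hP
  obtain ⟨Q⟩ : Nonempty (Sylow 3 K) := inferInstance
  have hQ : Nat.card Q = 3 := by
    have h1 : (Nat.card K).factorization 3 = 1 := by
      have h2 := K.card_mul_index
      rw [hi] at h2
      have h3 : (Nat.card K * 3).factorization 3 = 2 := by rw [h2, h9]
      rw [Nat.factorization_mul Nat.card_pos.ne' (by norm_num), Finsupp.add_apply,
        Nat.Prime.factorization_self Nat.prime_three] at h3
      omega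
    rw [Q.card_eq_multiplicity, h1, pow_one]
  have hnilK : ¬ HasNormalPComplement 3 K := by
    exact fun h => hnil (compl_up huc hK hu h)
  obtain ⟨θ₁, θ₂, ε₁, ε₂, h1, h2, h12, hB, hs1, hs2, hr, hd, hnc⟩ := three_block hM Q hQ hnilK
  obtain ⟨π, hπs, hπ, hπ1, hπz⟩ := exists_proj huc hK
  -- restriction
  have hcov : ∃ χ ∈ principalBlock M H, ∃ θ ∈ principalBlock M K,
      classInner (fun n : K => (χ : H → ℂ) n) (θ : K → ℂ) ≠ 0 := by
    refine ⟨tr H, Blocks.PrincipalSection.one_mem_principalBlock, tr K,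
      Blocks.PrincipalSection.one_mem_principalBlock, ?_⟩
    unfold classInner
    simp only [map_one, mul_one, Finset.sum_const, Finset.card_univ, nsmul_eq_mul]
    rw [← Nat.card_eq_fintype_card, inv_mul_cancel₀ (Nat.cast_ne_zero.2 Nat.card_pos.ne')]
    exact one_ne_zero
  obtain ⟨-, -, hres, hfib, -, -⟩ := S4640.result 3 M hM K ⟨1, by rw [hi, pow_one]⟩ (principalBlock M K)
    Blocks.PrincipalSection.isPBlock_principalBlock
    (fun g => H652.PairBasic.stabilizesBlock_principal K (by rw [normalizer_eq_top]; trivial))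
    (principalBlock M H) Blocks.PrincipalSection.isPBlock_principalBlock hcov (P : Subgroup H)
    ((S4652.result 3 M hM _).2 ⟨P, rfl⟩) (fun x hx y hy => congrArg Subtype.val (hPab ⟨x, hx⟩ ⟨y, hy⟩))
  rw [hi] at hfib
  -- inflation
  have hinf : ∀ θ ∈ principalBlock M K, ∃ χ ∈ principalBlock M H, ∀ h : H, (χ : H → ℂ) h = (θ : K → ℂ) (π h) :=
    fun θ hθ => ⟨_, H133.PB.mem_principalBlock_comp π hπs hθ, fun h => rfl⟩
  have hm0 : tr K ∈ principalBlock M K := by rw [hB]; simp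
  have hm1 : θ₁ ∈ principalBlock M K := by rw [hB]; simp
  have hm2 : θ₂ ∈ principalBlock M K := by rw [hB]; simp
  obtain ⟨Θ, hΘ, hΘe⟩ := hinf θ₁ hm1
  have hΘK : ∀ k : K, (Θ : H → ℂ) k = (θ₁ : K → ℂ) k := fun k => by rw [hΘe, hπ]
  have hord : ∀ (y : H) (hy : y ∈ K), orderOf (⟨y, hy⟩ : K) = orderOf y := fun y hy => Subgroup.orderOf_mk y hy
  have hss1 : (ε₁ : ℂ) * ε₁ = 1 := by rcases hs1 with rfl | rfl <;> norm_num
  have hss2 : (ε₂ : ℂ) * ε₂ = 1 := by rcases hs2 with rfl | rfl <;> norm_num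
  refine ⟨Θ, ε₁, hs1, ?_, ?_, ?_, ?_, ?_⟩
  · -- linear combinations
    intro ξ hξ
    obtain ⟨θ, hθ, hθe⟩ := hres ξ hξ
    have hcase : ∃ a b : ℤ, ∀ y : K, ¬ 3 ∣ orderOf y → (θ : K → ℂ) y = (a : ℂ) + (b : ℂ) * (θ₁ : K → ℂ) y := by
      rw [hB] at hθ
      simp only [Set.mem_insert_iff, Set.mem_singleton_iff] at hθ
      rcases hθ with rfl | rfl | rfl
      · exact ⟨1, 0, fun y _ => by simp⟩
      · exact ⟨0, 1, fun y _ => by simp⟩
      · refine ⟨-ε₂, -(ε₁ * ε₂), fun y hy => ?_⟩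
        push_cast
        linear_combination (ε₂ : ℂ) * hr y hy - (θ : K → ℂ) y * hss2
    obtain ⟨a, b, hab⟩ := hcase
    refine ⟨a, b, fun y hy => ?_⟩
    have hyK := mem_of_regular huc hK hu hy
    have h3 := hθe ⟨y, hyK⟩
    have h4 := hab ⟨y, hyK⟩ (by rwa [hord])
    have h5 := hΘK ⟨y, hyK⟩
    rw [show ((⟨y, hyK⟩ : K) : H) = y from rfl] at h3 h5
    rw [h3, h4, h5]
  · -- Gram
    intro y y' hy hy'
    have hyK := mem_of_regular huc hK hu hy
    have hyK' := mem_of_regular huc hK hu hy'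
    have := Fintype.ofFinite (IrrCharacter H)
    have := Fintype.ofFinite (IrrCharacter K)
    have hex : ∀ ξ : IrrCharacter H, ∃ θ : IrrCharacter K, ξ ∈ principalBlock M H →
        θ ∈ principalBlock M K ∧ ∀ n : K, (ξ : H → ℂ) n = (θ : K → ℂ) n := by
      intro ξ
      by_cases hξ : ξ ∈ principalBlock M H
      · obtain ⟨θ, h3, h4⟩ := hres ξ hξ
        exact ⟨θ, fun _ => ⟨h3, h4⟩⟩
      · exact ⟨tr K, fun h => absurd h hξ⟩
    choose r hr' using hex
    set S := (principalBlock M H).toFinset with hS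
    set T := (principalBlock M K).toFinset with hT
    rw [finsum_mem_eq_toFinset_sum, ← hS]
    set F : IrrCharacter K → ℂ := fun θ => (θ : K → ℂ) ⟨y, hyK⟩ * conj ((θ : K → ℂ) ⟨y', hyK'⟩) with hF
    have hSF : ∀ ξ ∈ S, (ξ : H → ℂ) y * conj ((ξ : H → ℂ) y') = F (r ξ) := by
      intro ξ hξ
      obtain ⟨-, h4⟩ := hr' ξ (Set.mem_toFinset.1 hξ)
      have h5 := h4 ⟨y, hyK⟩
      have h6 := h4 ⟨y', hyK'⟩
      rw [show ((⟨y, hyK⟩ : K) : H) = y from rfl] at h5
      rw [show ((⟨y', hyK'⟩ : K) : H) = y' from rfl] at h6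
      rw [h5, h6]
    have hmaps : ∀ ξ ∈ S, r ξ ∈ T := fun ξ hξ => Set.mem_toFinset.2 (hr' ξ (Set.mem_toFinset.1 hξ)).1
    rw [Finset.sum_congr rfl hSF, ← Finset.sum_fiberwise_of_maps_to hmaps]
    have hfc : ∀ θ ∈ T, ∑ ξ ∈ S with r ξ = θ, F (r ξ) = 3 * F θ := by
      intro θ hθ
      rw [Finset.sum_congr rfl fun ξ hξ => by rw [(Finset.mem_filter.1 hξ).2], Finset.sum_const, nsmul_eq_mul]
      congr 1
      have h3 := hfib θ (Set.mem_toFinset.1 hθ)
      rw [Nat.card_eq_fintype_card, Fintype.card_subtype] at h3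
      have h4 : (Finset.univ.filter fun χ : IrrCharacter H =>
          χ ∈ principalBlock M H ∧ ∀ n : K, (χ : H → ℂ) n = (θ : K → ℂ) n) = S.filter fun ξ => r ξ = θ := by
        ext χ
        rw [Finset.mem_filter, Finset.mem_filter]
        constructor
        · rintro ⟨-, h5, h6⟩
          refine ⟨Set.mem_toFinset.2 h5, Subtype.ext (funext fun n => ?_)⟩
          rw [← h6, (hr' χ h5).2]
        · rintro ⟨h5, h6⟩
          have h7 := Set.mem_toFinset.1 h5
          refine ⟨Finset.mem_univ _, h7, fun n => ?_⟩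
          rw [(hr' χ h7).2, h6]
      rw [h4] at h3
      rw [h3]
      norm_num
    rw [Finset.sum_congr rfl hfc, ← Finset.mul_sum]
    have hTe : T = {tr K, θ₁, θ₂} := by
      rw [hT]
      ext χ
      rw [Set.mem_toFinset, hB]
      simp
    rw [hTe, Finset.sum_insert (by
      simp only [Finset.mem_insert, Finset.mem_singleton, not_or]
      exact ⟨h1.symm, h2.symm⟩), Finset.sum_pair h12]
    simp only [hF]
    have h5 := hr ⟨y, hyK⟩ (by rwa [hord])
    have h6 := hr ⟨y', hyK'⟩ (by rwa [hord])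
    have h7 : (θ₂ : K → ℂ) ⟨y, hyK⟩ = -ε₂ - ε₂ * ε₁ * (θ₁ : K → ℂ) ⟨y, hyK⟩ := by
      linear_combination (ε₂ : ℂ) * h5 - (θ₂ : K → ℂ) ⟨y, hyK⟩ * hss2
    have h8 : (θ₂ : K → ℂ) ⟨y', hyK'⟩ = -ε₂ - ε₂ * ε₁ * (θ₁ : K → ℂ) ⟨y', hyK'⟩ := by
      linear_combination (ε₂ : ℂ) * h6 - (θ₂ : K → ℂ) ⟨y', hyK'⟩ * hss2
    have h9' := hΘK ⟨y, hyK⟩
    have h10 := hΘK ⟨y', hyK'⟩
    rw [show ((⟨y, hyK⟩ : K) : H) = y from rfl] at h9'
    rw [show ((⟨y', hyK'⟩ : K) : H) = y' from rfl] at h10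
    rw [h7, h8, h9', h10]
    simp only [map_sub, map_mul, map_neg, map_one, map_intCast]
    set a := (θ₁ : K → ℂ) ⟨y, hyK⟩
    set b := conj ((θ₁ : K → ℂ) ⟨y', hyK'⟩)
    linear_combination (3 * (1 + (ε₁ : ℂ) * a + ε₁ * b + ε₁ * ε₁ * a * b)) * hss2 + 3 * a * b * hss1
  · obtain ⟨y, hy, hne⟩ := hnc
    refine ⟨y, ?_, ?_⟩
    · rwa [Subgroup.orderOf_coe]
    · rw [hΘK]
      have := hΘK 1
      rw [show ((1 : K) : H) = 1 from rfl] at this
      rw [this]
      exact hne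
  · have h3 : charDegree (Θ : H → ℂ) = charDegree (θ₁ : K → ℂ) := by
      have h4 := hΘK 1
      rw [show ((1 : K) : H) = 1 from rfl, Blocks.Basic.irr_one_eq_charDegree Θ.2,
        Blocks.Basic.irr_one_eq_charDegree θ₁.2] at h4
      exact_mod_cast h4
    rw [h3]
    exact hd
  · -- invariance
    intro σ hσ
    have hσz : ∀ z ∈ zpowers u, π (σ z) = 1 := by
      intro z hz
      obtain ⟨k, rfl⟩ := mem_zpowers_iff.1 hz
      refine hπ1 _ ?_
      rw [map_zpow]
      exact (zpowers u).zpow_mem hσ k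
    set χ : IrrCharacter H := ⟨(Θ : H → ℂ) ∘ σ.toMonoidHom, _⟩ with hχ'
    have hχ : χ ∈ principalBlock M H := H133.PB.mem_principalBlock_comp σ.toMonoidHom σ.surjective hΘ
    have hχe : ∀ h : H, (χ : H → ℂ) h = (Θ : H → ℂ) (σ h) := fun h => rfl
    obtain ⟨θ', hθ', hθe⟩ := hres χ hχ
    have hχπ : ∀ h : H, (χ : H → ℂ) h = (θ' : K → ℂ) (π h) := by
      intro h
      obtain ⟨z, hz, hze⟩ := hπz h
      have h3 : (χ : H → ℂ) h = (χ : H → ℂ) (π h : H) := by
        conv_lhs => rw [hze]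
        rw [hχe, hχe, hΘe, hΘe, map_mul, map_mul, hσz z hz, one_mul]
      rw [h3, hθe]
    rw [hB] at hθ'
    simp only [Set.mem_insert_iff, Set.mem_singleton_iff] at hθ'
    intro y
    rw [← hχe]
    rcases hθ' with rfl | rfl | rfl
    · exfalso
      apply h1
      apply Subtype.ext
      funext k
      obtain ⟨h, rfl⟩ := hπs k
      rw [← hΘe, ← σ.apply_symm_apply h, ← hχe, hχπ]
    · rw [hχπ, hΘe]
    · exfalso
      have h3 := hχπ 1
      rw [hχe, map_one, map_one, hΘe, map_one] at h3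
      have h4 := hr 1 (by rw [orderOf_one]; norm_num)
      rw [← h3, Blocks.Basic.irr_one_eq_charDegree θ₁.2] at h4
      have h5 : 1 + ε₁ * (charDegree (θ₁ : K → ℂ) : ℤ) + ε₂ * (charDegree (θ₁ : K → ℂ) : ℤ) = 0 := by
        exact_mod_cast h4
      rcases hs1 with h8 | h8 <;> rcases hs2 with h9 | h9 <;> rw [h8, h9] at h5 <;> omega

end Cfsg.Agent.H774.P9
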