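import Cfsg.Agent.H774.P9.OneA
import Cfsg.Agent.H784.K5.Crit

/-!
# `|P| = 9`, `P` not cyclic: non-free action gives `k(B₀) ≠ 6` (helper774)
-/

set_option autoImplicit false

open Cfsg Subgroup

namespace Cfsg.Agent.H774.P9

universe u

theorem mem_sup_zp {G : Type*} [Group G] {x w y : G} (h : Commute x w) (hy : y ∈ zpowers x ⊔ zpowers w) :
    ∃ i j : ℤ, y = x ^ i * w ^ j := by
  let S : Subgroup G :=
    { carrier := {y | ∃ i j : ℤ, y = x ^ i * w ^ j}
      mul_mem' := by
        rintro _ _ ⟨i, j, rfl⟩ ⟨k, l, rfl⟩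
        refine ⟨i + k, j + l, ?_⟩
        have h1 : w ^ j * x ^ k = x ^ k * w ^ j := ((h.zpow_left k).zpow_right j).eq.symm
        rw [zpow_add, zpow_add, mul_assoc (x ^ i), ← mul_assoc (w ^ j), h1]
        group
      one_mem' := ⟨0, 0, by simp⟩
      inv_mem' := by
        rintro _ ⟨i, j, rfl⟩
        refine ⟨-i, -j, ?_⟩
        have h1 : w ^ (-j) * x ^ (-i) = x ^ (-i) * w ^ (-j) := ((h.zpow_left (-i)).zpow_right (-j)).eq.symm
        rw [mul_inv_rev, ← zpow_neg, ← zpow_neg, h1] }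
  have h1 : zpowers x ⊔ zpowers w ≤ S :=
    sup_le (zpowers_le.2 ⟨1, 0, by simp⟩) (zpowers_le.2 ⟨0, 1, by simp⟩)
  exact h1 hy

section nine

variable {G : Type u} [Group G] [Finite G] {P : Sylow 3 G} (hP : Nat.card P = 9)

include hP

theorem comm9 {a b : G} (ha : a ∈ P) (hb : b ∈ P) : a * b = b * a := by
  have hp3 : Fact (Nat.Prime 3) := ⟨Nat.prime_three⟩
  have h := IsPGroup.isMulCommutative_of_card_eq_prime_sq (p := 3) (G := P) (by rw [hP]; norm_num)
  exact congrArg Subtype.val (h.is_comm.comm ⟨a, ha⟩ ⟨b, hb⟩)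

variable (hc : ¬ IsCyclic P)

include hc

theorem order9 {a : G} (ha : a ∈ P) (ha1 : a ≠ 1) : orderOf a = 3 := by
  have h1 : orderOf (⟨a, ha⟩ : P) ∣ 3 ^ 2 := by
    exact (orderOf_dvd_natCard (⟨a, ha⟩ : P)).trans (dvd_of_eq hP)
  rw [Subgroup.orderOf_mk] at h1
  obtain ⟨k, hk, hk'⟩ := (Nat.dvd_prime_pow Nat.prime_three).1 h1
  interval_cases k
  · exact absurd (orderOf_eq_one_iff.1 (by simpa using hk')) ha1
  · simpa using hk'
  · exfalso
    apply hc
    refine isCyclic_of_orderOf_eq_card (⟨a, ha⟩ : P) ?_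
    rw [Subgroup.orderOf_mk, hk', hP]
    norm_num

theorem cube9 {a : G} (ha : a ∈ P) : a ^ 3 = 1 := by
  by_cases h : a = 1
  · rw [h, one_pow]
  · rw [← order9 hP hc ha h]
    exact pow_orderOf_eq_one a

theorem exists_outside {x : G} (hx : x ∈ P) : ∃ w ∈ P, w ∉ zpowers x := by
  by_contra hcon
  push Not at hcon
  have h1 : (P : Subgroup G) ≤ zpowers x := hcon
  have h2 := card_le_of_le h1
  rw [Nat.card_zpowers] at h2
  have h3 : Nat.card (P : Subgroup G) = 9 := hP
  have h4 : orderOf x ≤ 3 := by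
    by_cases h : x = 1
    · rw [h, orderOf_one]; norm_num
    · exact (order9 hP hc hx h).le
  omega

theorem card_zp {x : G} (hx : x ∈ P) (hx1 : x ≠ 1) : Nat.card (zpowers x) = 3 := by
  rw [Nat.card_zpowers, order9 hP hc hx hx1]

theorem sup_eq {x w : G} (hx : x ∈ P) (hx1 : x ≠ 1) (hw : w ∈ P) (hwx : w ∉ zpowers x) :
    zpowers x ⊔ zpowers w = (P : Subgroup G) := by
  have hle : zpowers x ⊔ zpowers w ≤ (P : Subgroup G) := sup_le (zpowers_le.2 hx) (zpowers_le.2 hw)
  refine eq_of_le_of_card_ge hle ?_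
  have h1 : Nat.card ↥(zpowers x ⊔ zpowers w) ∣ 3 ^ 2 := by
    have := card_dvd_of_le hle
    rw [show Nat.card (P : Subgroup G) = 3 ^ 2 from hP] at this
    exact this
  have h2 : 3 < Nat.card ↥(zpowers x ⊔ zpowers w) := by
    rw [← card_zp hP hc hx hx1]
    by_contra hcon
    push Not at hcon
    have h3 : zpowers x = zpowers x ⊔ zpowers w := eq_of_le_of_card_ge le_sup_left hcon
    apply hwx
    rw [h3]
    exact (le_sup_right : zpowers w ≤ _) (mem_zpowers w)
  obtain ⟨k, hk, hk'⟩ := (Nat.dvd_prime_pow Nat.prime_three).1 h1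
  rw [show Nat.card (P : Subgroup G) = 9 from hP]
  interval_cases k
  · rw [hk'] at h2; norm_num at h2
  · rw [hk'] at h2; norm_num at h2
  · rw [hk']; norm_num

theorem inf_eq {x w : G} (hx : x ∈ P) (hx1 : x ≠ 1) (hw : w ∈ P) (hwx : w ∉ zpowers x) :
    zpowers w ⊓ zpowers x = ⊥ := by
  have hp3 : Fact (Nat.Prime 3) := ⟨Nat.prime_three⟩
  rw [eq_bot_iff]
  intro y hy
  rw [mem_bot]
  by_contra hy1
  have hw1 : w ≠ 1 := fun h => hwx (h ▸ one_mem _)
  apply hwx
  have h1 : zpowers y = zpowers x := H734.KB.zpowers_eq_of_mem (p := 3) (order9 hP hc hx hx1) hy.2 hy1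
  have h2 : zpowers y = zpowers w := H734.KB.zpowers_eq_of_mem (p := 3) (order9 hP hc hw hw1) hy.1 hy1
  rw [← h1, h2]
  exact mem_zpowers w

omit hc in
theorem not_dvd_rel : ¬ 3 ∣ (centralizer ((P : Subgroup G) : Set G)).relIndex
    (normalizer ((P : Subgroup G) : Set G)) := by
  have hp3 : Fact (Nat.Prime 3) := ⟨Nat.prime_three⟩
  intro h1
  have hPC : (P : Subgroup G) ≤ centralizer ((P : Subgroup G) : Set G) := by
    intro x hx
    rw [Subgroup.mem_centralizer_iff]
    intro y hy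
    exact comm9 hP hy hx
  have h2 : (centralizer ((P : Subgroup G) : Set G)).relIndex
      (normalizer ((P : Subgroup G) : Set G)) ∣ (P : Subgroup G).index :=
    (Subgroup.relIndex_dvd_of_le_left _ hPC).trans
      (Subgroup.relIndex_dvd_index_of_le (Subgroup.le_normalizer))
  exact P.not_dvd_index (h1.trans h2)

omit hc in
theorem mem_cent_of_cube {g : G} (hg : g ∈ normalizer ((P : Subgroup G) : Set G))
    (h : g ^ 3 ∈ centralizer ((P : Subgroup G) : Set G)) : g ∈ centralizer ((P : Subgroup G) : Set G) := by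
  set φ := (P : Subgroup G).normalizerMonoidHom with hφ
  have hker : ∀ n : normalizer ((P : Subgroup G) : Set G), φ n = 1 ↔
      (n : G) ∈ centralizer ((P : Subgroup G) : Set G) := by
    intro n
    rw [← MonoidHom.mem_ker, hφ, Subgroup.normalizerMonoidHom_ker, mem_subgroupOf]
  have hcard : Nat.card φ.range =
      (Subgroup.centralizer ((P : Subgroup G) : Set G)).relIndex
        (Subgroup.normalizer ((P : Subgroup G) : Set G)) := by
    rw [← Subgroup.index_ker, Subgroup.normalizerMonoidHom_ker]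
    rfl
  set n : normalizer ((P : Subgroup G) : Set G) := ⟨g, hg⟩ with hn
  have h1 : φ n ^ 3 = 1 := by
    rw [← map_pow, hker]
    exact h
  have hod : orderOf (φ n) ∣ Nat.card φ.range := by
    have h1 : orderOf (⟨φ n, ⟨_, rfl⟩⟩ : φ.range) ∣ Nat.card φ.range := orderOf_dvd_natCard _
    rwa [← Subgroup.orderOf_coe] at h1
  have h2 : orderOf (φ n) ∣ 3 := orderOf_dvd_of_pow_eq_one h1
  have h3 : orderOf (φ n) = 1 := by
    rcases (Nat.dvd_prime Nat.prime_three).1 h2 with h3 | h3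
    · exact h3
    · exfalso
      have h4 : 3 ∣ Nat.card φ.range := (dvd_of_eq h3.symm).trans hod
      exact not_dvd_rel hP (h4.trans (dvd_of_eq hcard))
  exact (hker n).1 (orderOf_eq_one_iff.1 h3)

/-- the action of an element of the normalizer fixing `x` -/
theorem exists_inverted {g : G} (hg : g ∈ normalizer ((P : Subgroup G) : Set G)) {x : G} (hx : x ∈ P)
    (hx1 : x ≠ 1) (hgx : g * x * g⁻¹ = x) (hgC : g ∉ centralizer ((P : Subgroup G) : Set G)) :
    ∃ v ∈ P, v ∉ zpowers x ∧ g * v * g⁻¹ = v⁻¹ := by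
  obtain ⟨w, hw, hwx⟩ := exists_outside hP hc hx
  have hsup := sup_eq hP hc hx hx1 hw hwx
  have hfw : g * w * g⁻¹ ∈ P := (mem_normalizer_iff.1 hg w).1 hw
  have hcomm : x * w = w * x := comm9 hP hx hw
  have hnx : (zpowers x ⊔ zpowers w : Subgroup G) = (P : Subgroup G) := hsup
  obtain ⟨i, j, hij⟩ : ∃ i j : ℤ, g * w * g⁻¹ = x ^ i * w ^ j := by
    have h1 : g * w * g⁻¹ ∈ zpowers x ⊔ zpowers w := by rw [hsup]; exact hfw
    exact mem_sup_zp hcomm h1
  have hx3 : x ^ 3 = 1 := cube9 hP hc hx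
  have hw3 : w ^ 3 = 1 := cube9 hP hc hw
  have hw1 : w ≠ 1 := fun h => hwx (h ▸ one_mem _)
  have hw3' : ∀ k : ℤ, w ^ (3 * k) = 1 := fun k => by rw [zpow_mul]; norm_cast; rw [hw3, one_zpow]
  have hx3' : ∀ k : ℤ, x ^ (3 * k) = 1 := fun k => by rw [zpow_mul]; norm_cast; rw [hx3, one_zpow]
  have hgxi : ∀ k : ℤ, g * x ^ k * g⁻¹ = x ^ k := fun k => by rw [← conj_zpow, hgx]
  have hconj : ∀ a b : G, g * (a * b) * g⁻¹ = (g * a * g⁻¹) * (g * b * g⁻¹) := fun a b => by group
  have hcc : ∀ a b : ℤ, x ^ a * w ^ b = w ^ b * x ^ a := fun a b =>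
    (((show Commute x w from hcomm).zpow_left a).zpow_right b).eq
  have hj3 : j % 3 = 0 ∨ j % 3 = 1 ∨ j % 3 = 2 := by omega
  have hjr : w ^ j = w ^ (j % 3) := by
    conv_lhs => rw [← Int.mul_ediv_add_emod j 3, zpow_add, hw3', one_mul]
  rcases hj3 with hj | hj | hj
  · exfalso
    rw [hjr, hj, zpow_zero, mul_one] at hij
    have h1 : w = g⁻¹ * x ^ i * g := by rw [← hij]; group
    have h2 : g⁻¹ * x ^ i * g = x ^ i := by
      have := hgxi i
      calc g⁻¹ * x ^ i * g = g⁻¹ * (g * x ^ i * g⁻¹) * g := by rw [this]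
        _ = x ^ i := by group
    rw [h2] at h1
    exact hwx (h1 ▸ zpow_mem (mem_zpowers x) i)
  · exfalso
    rw [hjr, hj, zpow_one] at hij
    apply hgC
    apply mem_cent_of_cube hP hg
    rw [mem_centralizer_iff]
    have h2 : g ^ 2 * w * (g ^ 2)⁻¹ = x ^ i * (x ^ i * w) := by
      have : g ^ 2 * w * (g ^ 2)⁻¹ = g * (g * w * g⁻¹) * g⁻¹ := by simp only [pow_two, mul_inv_rev, mul_assoc]
      rw [this, hij, hconj, hgxi, hij]
    have h3 : g ^ 3 * w * (g ^ 3)⁻¹ = w := by
      have : g ^ 3 * w * (g ^ 3)⁻¹ = g * (g ^ 2 * w * (g ^ 2)⁻¹) * g⁻¹ := by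
        simp only [pow_succ, pow_zero, one_mul, mul_inv_rev, mul_assoc]
      rw [this, h2, hconj, hconj, hgxi, hij, ← mul_assoc, ← mul_assoc, ← zpow_add, ← zpow_add,
        show i + i + i = 3 * i by ring, hx3', one_mul]
    have h4 : g ^ 3 * x * (g ^ 3)⁻¹ = x := by
      have : g ^ 3 * x * (g ^ 3)⁻¹ = g * (g * (g * x * g⁻¹) * g⁻¹) * g⁻¹ := by
        simp only [pow_succ, pow_zero, one_mul, mul_inv_rev, mul_assoc]
      rw [this, hgx, hgx, hgx]
    intro y hy
    have hy' : y ∈ zpowers x ⊔ zpowers w := by rw [hsup]; exact hy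
    obtain ⟨a, b, rfl⟩ := mem_sup_zp hcomm hy'
    have h5 : g ^ 3 * (x ^ a * w ^ b) * (g ^ 3)⁻¹ = x ^ a * w ^ b := by
      have : g ^ 3 * (x ^ a * w ^ b) * (g ^ 3)⁻¹ = (g ^ 3 * x ^ a * (g ^ 3)⁻¹) * (g ^ 3 * w ^ b * (g ^ 3)⁻¹) := by
        group
      rw [this, ← conj_zpow, ← conj_zpow, h3, h4]
    calc (x ^ a * w ^ b) * g ^ 3 = (g ^ 3 * (x ^ a * w ^ b) * (g ^ 3)⁻¹) * g ^ 3 := by rw [h5]
      _ = g ^ 3 * (x ^ a * w ^ b) := by group
  · rw [hjr, hj] at hij
    have hw2 : w ^ (2 : ℤ) = w ^ (-1 : ℤ) := by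
      rw [show (2 : ℤ) = 3 * 1 + (-1) by norm_num, zpow_add, hw3', one_mul]
    rw [hw2] at hij
    refine ⟨w ^ (-1 : ℤ) * x ^ (-i), ?_, ?_, ?_⟩
    · exact mul_mem (zpow_mem hw _) (zpow_mem hx _)
    · intro h
      apply hwx
      have h1 : w ^ (-1 : ℤ) ∈ zpowers x := (Subgroup.mul_mem_cancel_right _ (zpow_mem (mem_zpowers x) (-i))).1 h
      have h2 := inv_mem h1
      simpa using h2
    · rw [hconj, hgxi, ← conj_zpow, hij, mul_inv_rev, ← zpow_neg, ← zpow_neg, neg_neg, neg_neg]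
      have h1 : (x ^ i * w ^ (-1 : ℤ)) ^ (-1 : ℤ) = w ^ (1 : ℤ) * x ^ (-i) := by
        rw [zpow_neg_one, mul_inv_rev, ← zpow_neg, ← zpow_neg, neg_neg]
      rw [h1, mul_assoc, ← zpow_add, ← hcc, show -i + -i = 3 * (-i) + i by ring, zpow_add, hx3', one_mul]

omit hc in
theorem fact9 : (Nat.card G).factorization 3 = 2 := by
  have hp3 : Fact (Nat.Prime 3) := ⟨Nat.prime_three⟩
  have h1 := P.card_eq_multiplicity
  rw [hP, show (9 : ℕ) = 3 ^ 2 by norm_num] at h1
  exact (Nat.pow_right_injective (le_refl 2 |>.trans (by norm_num) : 2 ≤ 3) h1).symm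

omit hc in
theorem le_cent {x : G} (hx : x ∈ P) : (P : Subgroup G) ≤ centralizer ({x} : Set G) := fun y hy =>
  mem_centralizer_singleton_iff.2 (comm9 hP hy hx)

omit hc in
theorem fact_of_le {H : Subgroup G} (h : (P : Subgroup G) ≤ H) : (Nat.card H).factorization 3 = 2 := by
  have hp3 : Fact (Nat.Prime 3) := ⟨Nat.prime_three⟩
  apply le_antisymm
  · rw [← fact9 hP]
    exact (Nat.factorization_le_iff_dvd Nat.card_pos.ne' Nat.card_pos.ne').2 (card_subgroup_dvd_card H) 3
  · rw [← Nat.Prime.pow_dvd_iff_le_factorization Nat.prime_three Nat.card_pos.ne']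
    exact (dvd_of_eq hP.symm).trans (card_dvd_of_le h)

include hc in
/-- an inverted element makes the centralizer not `3`-nilpotent -/
theorem not_compl {H : Subgroup G} (h : (P : Subgroup G) ≤ H) {g v : G} (hg : g ∈ H) (hv : v ∈ P) (hv1 : v ≠ 1)
    (hgv : g * v * g⁻¹ = v⁻¹) : ¬ HasNormalPComplement 3 H := by
  have hp3 : Fact (Nat.Prime 3) := ⟨Nat.prime_three⟩
  intro hcp
  obtain ⟨N, hN, h1, k, h2⟩ := OddOrderLocal.NilpotentQuotient.exists_of_hasNormalPComplement hcp
  have hk : k = 2 := by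
    have h3 := N.card_mul_index
    have h4 := fact_of_le hP h
    rw [← h3, h2, Nat.factorization_mul Nat.card_pos.ne' (by positivity), Finsupp.add_apply,
      Nat.factorization_eq_zero_of_not_dvd h1, zero_add, Nat.Prime.factorization_pow Nat.prime_three] at h4
    simpa using h4
  subst hk
  have hab := IsPGroup.isMulCommutative_of_card_eq_prime_sq (p := 3) (G := H ⧸ N) h2
  set v' : H := ⟨v, h hv⟩ with hv'
  set g' : H := ⟨g, hg⟩ with hg'
  have h3 : g' * v' * g'⁻¹ = v'⁻¹ := Subtype.ext hgv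
  have h4 : (v' : H ⧸ N) = (v' : H ⧸ N)⁻¹ := by
    have h5 := congrArg (QuotientGroup.mk' N) h3
    rw [map_mul, map_mul, map_inv, map_inv, hab.is_comm.comm, ← mul_assoc, inv_mul_cancel, one_mul] at h5
    exact h5
  have h5 : v' ^ 2 ∈ N := by
    rw [← QuotientGroup.eq_one_iff, QuotientGroup.mk_pow, pow_two]
    nth_rw 2 [h4]
    exact mul_inv_cancel _
  have h6 : v' ∈ N := by
    have h7 : v' = (v' ^ 2) ^ 2 := by
      have h8 : v' ^ 3 = 1 := Subtype.ext (cube9 hP hc hv)
      calc v' = v' ^ 3 * v' := by rw [h8, one_mul]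
        _ = (v' ^ 2) ^ 2 := by rw [← pow_mul, ← pow_succ]
    rw [h7]
    exact pow_mem h5 2
  apply h1
  have h9 : orderOf v' = 3 := by
    rw [← Subgroup.orderOf_coe]
    exact order9 hP hc hv hv1
  rw [← h9]
  exact Subgroup.orderOf_dvd_natCard N h6

/-- a complement of a subgroup of order three in its centralizer -/
theorem exists_compl {x : G} (hx : x ∈ P) (hx1 : x ≠ 1) {H : Subgroup G}
    (hH : H = centralizer ({x} : Set G)) (hxH : x ∈ H) :
    ∃ K : Subgroup H, IsComplement' K (zpowers (⟨x, hxH⟩ : H)) := by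
  have hp3 : Fact (Nat.Prime 3) := ⟨Nat.prime_three⟩
  have hPH : (P : Subgroup G) ≤ H := hH ▸ le_cent hP hx
  obtain ⟨w, hw, hwx⟩ := exists_outside hP hc hx
  have hcen : ∀ h : H, (⟨x, hxH⟩ : H) * h = h * ⟨x, hxH⟩ := by
    intro h
    apply Subtype.ext
    have h1 : (h : G) ∈ centralizer ({x} : Set G) := hH ▸ h.2
    exact (mem_centralizer_singleton_iff.1 h1).symm
  have hn := zp_normal hcen
  have : IsMulCommutative (zpowers (⟨x, hxH⟩ : H)) := inferInstance
  set x' : H := ⟨x, hxH⟩ with hx'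
  set w' : H := ⟨w, hPH hw⟩ with hw'
  have hox : orderOf x' = 3 := by
    rw [← Subgroup.orderOf_coe]
    exact order9 hP hc hx hx1
  have hmap : ∀ y : H, (zpowers y).map H.subtype = zpowers (y : G) := fun _ => by
    rw [MonoidHom.map_zpowers]; rfl
  have k1 : zpowers x' ≤ (P : Subgroup G).subgroupOf H := zpowers_le.2 (mem_subgroupOf.2 hx)
  have k2 : (Nat.card (zpowers x')).Coprime ((P : Subgroup G).subgroupOf H).index := by
    rw [Nat.card_zpowers, hox]
    refine (Nat.Prime.coprime_iff_not_dvd Nat.prime_three).2 fun h3 => ?_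
    have h4 : ((P : Subgroup G).subgroupOf H).index ∣ (P : Subgroup G).index :=
      relIndex_dvd_index_of_le hPH
    exact P.not_dvd_index (h3.trans h4)
  have k3 : zpowers w' ≤ (P : Subgroup G).subgroupOf H := zpowers_le.2 (mem_subgroupOf.2 hw)
  have k4 : zpowers w' ⊓ zpowers x' = ⊥ := by
    apply (Subgroup.map_injective H.subtype_injective)
    rw [Subgroup.map_inf _ _ _ H.subtype_injective, hmap, hmap, Subgroup.map_bot]
    exact inf_eq hP hc hx hx1 hw hwx
  have k5 : zpowers x' ⊔ zpowers w' = (P : Subgroup G).subgroupOf H := by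
    apply (Subgroup.map_injective H.subtype_injective)
    rw [Subgroup.map_sup, hmap, hmap, Subgroup.map_subgroupOf_eq_of_le hPH]
    exact sup_eq hP hc hx hx1 hw hwx
  obtain ⟨K, hK⟩ := S0051.result (zpowers x') ((P : Subgroup G).subgroupOf H) k1 k2 (zpowers w') k3 k4 k5
  exact ⟨K, hK.symm⟩

/-- **Non-free action: `k(B₀) ≠ 6`.** -/
theorem ne_six_of_fix {M : Ideal AlgInt} (hM : IsPModular 3 M) {g : G}
    (hg : g ∈ normalizer ((P : Subgroup G) : Set G)) {x : G} (hx : x ∈ P)
    (hx1 : x ≠ 1) (hgx : g * x * g⁻¹ = x) (hgC : g ∉ centralizer ((P : Subgroup G) : Set G)) :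
    Nat.card (principalBlock M G) ≠ 6 := by
  classical
  have hp3 : Fact (Nat.Prime 3) := ⟨Nat.prime_three⟩
  obtain ⟨v, hv, hvx, hgv⟩ := exists_inverted hP hc hg hx hx1 hgx hgC
  have hv1 : v ≠ 1 := fun h => hvx (h ▸ one_mem _)
  set H := centralizer ({x} : Set G) with hH
  have hxH : x ∈ H := mem_centralizer_singleton_iff.2 rfl
  have hPH : (P : Subgroup G) ≤ H := le_cent hP hx
  have hgH : g ∈ H := by
    rw [hH, mem_centralizer_singleton_iff]
    calc g * x = g * x * g⁻¹ * g := by group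
      _ = x * g := by rw [hgx]
  have hnil := not_compl hP hc hPH hgH hv hv1 hgv
  have hox := order9 hP hc hx hx1
  have h9 : 9 ∣ Nat.card G := (dvd_of_eq hP.symm).trans (card_subgroup_dvd_card (P : Subgroup G))
  by_cases hcj : IsConj x x⁻¹
  · obtain ⟨t, ht⟩ := isConj_iff.1 hcj
    obtain ⟨K, hK⟩ := exists_compl hP hc hx hx1 hH hxH
    obtain ⟨θ, ε, hD⟩ := exists_data hM (u := (⟨x, hxH⟩ : H)) (by rw [← Subgroup.orderOf_coe]; exact hox)
      (fun h => Subtype.ext (mem_centralizer_singleton_iff.1 h.2).symm) hK (fact_of_le hP hPH) hnil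
    exact not_six hM h9 hox ht hH hxH hD
  · have hel : ∀ y ∈ P, ∃ k : ℕ, orderOf y = 3 ^ k := fun y hy => by
      by_cases h : y = 1
      · exact ⟨0, by rw [h, orderOf_one, pow_zero]⟩
      · exact ⟨1, by rw [order9 hP hc hy h, pow_one]⟩
    have hvv : IsConj v v⁻¹ := isConj_iff.2 ⟨g, hgv⟩
    have hinvc : ∀ {a b : G}, IsConj a b → IsConj a⁻¹ b⁻¹ := by
      intro a b h
      obtain ⟨c, hc⟩ := isConj_iff.1 h
      exact isConj_iff.2 ⟨c, by rw [← hc]; group⟩
    have hxv : ¬ IsConj x v := fun h => hcj ((h.trans hvv).trans (hinvc h).symm)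
    have hxv' : ¬ IsConj x⁻¹ v := fun h => hcj (by
      have h1 := hinvc h
      rw [inv_inv] at h1
      exact (h1.trans hvv.symm).trans h.symm)
    have hxi : x⁻¹ ≠ 1 := inv_ne_one.2 hx1
    have hxx : x ≠ x⁻¹ := fun h => hcj (h ▸ IsConj.refl x)
    have hxnev : x ≠ v := fun h => hxv (h ▸ IsConj.refl x)
    have hxinev : x⁻¹ ≠ v := fun h => hxv' (h ▸ IsConj.refl _)
    have h := H784.K5.rank_sum_le (p := 3) hM ({x, x⁻¹, v} : Finset G)
      (by
        intro z hz
        simp only [Finset.mem_insert, Finset.mem_singleton] at hz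
        rcases hz with rfl | rfl | rfl
        · exact hel _ hx
        · exact hel _ (inv_mem hx)
        · exact hel _ hv)
      (by
        intro z hz
        simp only [Finset.mem_insert, Finset.mem_singleton] at hz
        rcases hz with rfl | rfl | rfl
        · exact hx1
        · exact hxi
        · exact hv1)
      (by
        intro z hz w hw hcj'
        simp only [Finset.mem_insert, Finset.mem_singleton] at hz hw
        rcases hz with rfl | rfl | rfl <;> rcases hw with rfl | rfl | rfl <;>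
          first
            | rfl
            | exact (hcj hcj').elim
            | exact (hcj hcj'.symm).elim
            | exact (hxv hcj').elim
            | exact (hxv hcj'.symm).elim
            | exact (hxv' hcj').elim
            | exact (hxv' hcj'.symm).elim)
    rw [Finset.sum_insert (by
        simp only [Finset.mem_insert, Finset.mem_singleton, not_or]
        exact ⟨hxx, hxnev⟩), Finset.sum_pair hxinev] at h
    have hci : centralizer ({x⁻¹} : Set G) = centralizer ({x} : Set G) :=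
      H734.KB.centralizer_eq_of_zpowers (zpowers_inv (g := x))
    rw [hci] at h
    have h1 : 2 ≤ blockRank 3 (principalBlock M G) := by
      refine H784.K5.two_le_rank hM fun hG => hnil ?_
      exact H634.ZJ.hasNormalPComplement_of_injective H.subtype H.subtype_injective hG
    have h2 : 2 ≤ blockRank 3 (principalBlock M ↥(centralizer ({x} : Set G))) := H784.K5.two_le_rank hM hnil
    have h3 := H634.Cols.blockRank_pos (G := ↥(centralizer ({v} : Set G))) (p := 3) hM
    omega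

end nine

end Cfsg.Agent.H774.P9
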