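import Cfsg.Agent.H774.P9.CentNine
import Cfsg.Agent.H774.P9.Arith
import Cfsg.Agent.H774.K0.Six
import Cfsg.Agent.H613.ContribVal
import Cfsg.Agent.CharactersDeep.ModCongr

/-!
# `k(B₀) ≠ 6` when a `3`-element with non-nilpotent centralizer is inverted, `|P| = 9` (helper774; proof of helper617)
-/

set_option autoImplicit false

open Cfsg Subgroup
open scoped ComplexConjugate

namespace Cfsg.Agent.H774.P9

universe u

/-- Eisenstein integers. -/
def Eis (w z : ℂ) : Prop := ∃ a b : ℤ, z = a + b * w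

theorem Eis.add {w z z' : ℂ} (h : Eis w z) (h' : Eis w z') : Eis w (z + z') := by
  obtain ⟨a, b, rfl⟩ := h
  obtain ⟨c, d, rfl⟩ := h'
  exact ⟨a + c, b + d, by push_cast; ring⟩

theorem Eis.int_mul {w z : ℂ} (n : ℤ) (h : Eis w z) : Eis w (n * z) := by
  obtain ⟨a, b, rfl⟩ := h
  exact ⟨n * a, n * b, by push_cast; ring⟩

theorem Eis.sum {w : ℂ} {ι : Type*} (s : Finset ι) (f : ι → ℂ) (h : ∀ i ∈ s, Eis w (f i)) :
    Eis w (∑ i ∈ s, f i) := by
  classical
  induction s using Finset.induction_on with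
  | empty => exact ⟨0, 0, by simp⟩
  | insert i s hi ih =>
    rw [Finset.sum_insert hi]
    exact (h i (Finset.mem_insert_self _ _)).add (ih fun j hj => h j (Finset.mem_insert_of_mem hj))

/-- cube roots of unity -/
theorem exists_root : ∃ w : ℂ, w ^ 2 + w + 1 = 0 ∧ w ≠ conj w := by
  obtain ⟨w, hw⟩ : ∃ w : ℂ, w ^ 2 + w + 1 = 0 := by
    obtain ⟨s, hs⟩ : ∃ s : ℂ, s ^ 2 = -3 := ⟨Complex.I * (Real.sqrt 3 : ℂ), by
      rw [mul_pow, Complex.I_sq, ← Complex.ofReal_pow, Real.sq_sqrt (by norm_num)]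
      norm_num⟩
    refine ⟨(-1 + s) / 2, ?_⟩
    linear_combination (1 / 4 : ℂ) * hs
  refine ⟨w, hw, fun h => ?_⟩
  have h1 : w.im = 0 := by
    have := congrArg Complex.im h
    rw [Complex.conj_im] at this
    linarith
  have h2 := congrArg Complex.re hw
  simp only [pow_two, Complex.add_re, Complex.mul_re, Complex.one_re, Complex.zero_re, h1] at h2
  nlinarith [sq_nonneg (w.re + 1 / 2)]

theorem eis_of_cube {w z : ℂ} (hw : w ^ 2 + w + 1 = 0) (hz : z ^ 3 = 1) : Eis w z := by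
  have h1 : (z - 1) * ((z - w) * (z - (-1 - w))) = 0 := by
    linear_combination hz - (z - 1) * hw
  rcases mul_eq_zero.1 h1 with h | h
  · exact ⟨1, 0, by push_cast; linear_combination h⟩
  · rcases mul_eq_zero.1 h with h | h
    · exact ⟨0, 1, by push_cast; linear_combination h⟩
    · exact ⟨-1, -1, by push_cast; linear_combination h⟩

theorem int_of_real {w z : ℂ} (hw1 : w ≠ conj w) (h : Eis w z) (hz : z = conj z) : ∃ a : ℤ, z = a := by
  obtain ⟨a, b, rfl⟩ := h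
  rw [map_add, map_mul, map_intCast, map_intCast] at hz
  have h1 : (b : ℂ) * (w - conj w) = 0 := by linear_combination hz
  rcases mul_eq_zero.1 h1 with h2 | h2
  · exact ⟨a, by rw [h2]; ring⟩
  · exact absurd (sub_eq_zero.1 h2) hw1

/-- **(1a)** -/
theorem not_six {G : Type u} [Group G] [Finite G] {M : Ideal AlgInt} (hM : IsPModular 3 M)
    (h9 : 9 ∣ Nat.card G) {u : G} (hu : orderOf u = 3) {g : G} (hg : g * u * g⁻¹ = u⁻¹) {H : Subgroup G}
    (hH : H = centralizer ({u} : Set G)) (huH : u ∈ H) {θ : IrrCharacter H} {ε : ℤ}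
    (hD : Data M (⟨u, huH⟩ : H) θ ε) : Nat.card (principalBlock M G) ≠ 6 := by
  classical
  intro h6
  have hp3 : Fact (Nat.Prime 3) := ⟨Nat.prime_three⟩
  have hMp := Cfsg.Agent.Blocks.Local.isPrime_of_isPModular hM
  have := Fintype.ofFinite G
  have := Fintype.ofFinite H
  have := Characters.Core.finite_irr (G := G)
  have := Characters.Core.finite_irr (G := H)
  have := Fintype.ofFinite (IrrCharacter G)
  have := Fintype.ofFinite (IrrCharacter H)
  have huk : ∃ k : ℕ, orderOf u = 3 ^ k := ⟨1, by rw [hu, pow_one]⟩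
  have hu3 : u ^ 3 = 1 := by rw [← hu]; exact pow_orderOf_eq_one u
  -- all degrees are prime to three
  have hdeg : ∀ ζ ∈ principalBlock M G, ¬ 3 ∣ charDegree (ζ : G → ℂ) := by
    have h7 := H774.K0.six_le_card (p := 3) (by norm_num) hM (G := G) (show 3 ^ 2 ∣ Nat.card G from h9)
    intro ζ hζ hd
    have h8 : Nat.card {χ : IrrCharacter G // χ ∈ principalBlock M G ∧ ¬ 3 ∣ charDegree (χ : G → ℂ)} <
        Nat.card (principalBlock M G) := by
      have hss : {χ : IrrCharacter G | χ ∈ principalBlock M G ∧ ¬ 3 ∣ charDegree (χ : G → ℂ)} ⊂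
          principalBlock M G := by
        refine ⟨fun χ hχ => hχ.1, fun h => (h hζ).2 hd⟩
      exact Set.ncard_lt_ncard hss (Set.toFinite _)
    omega
  -- expansions
  obtain ⟨n, e, hE⟩ := H613.ContribVal.exists_exp (u := u) (H := H) hH hu3
  have hexp : ∀ (ζ : IrrCharacter G) (c : H), (ζ : G → ℂ) (u * (c : G)) =
      ∑ ξ : IrrCharacter H, (n ζ ξ : ℂ) * e ξ * (ξ : H → ℂ) c := by
    intro ζ c
    have h7 := hE.expand ζ 1 c
    simp only [pow_one] at h7
    exact h7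
  have hinner : ∀ (ζ : IrrCharacter G) (ξ : IrrCharacter H),
      classInner (fun c : H => (ζ : G → ℂ) (u * (c : G))) (ξ : H → ℂ) = (n ζ ξ : ℂ) * e ξ := by
    intro ζ ξ
    have h7 : (fun c : H => (ζ : G → ℂ) (u * (c : G))) =
        ∑ ξ' : IrrCharacter H, ((n ζ ξ' : ℂ) * e ξ') • (ξ' : H → ℂ) := by
      funext c
      rw [hexp, Finset.sum_apply]
      rfl
    rw [h7, Characters.Core.classInner_sum_left,
      Finset.sum_eq_single ξ (fun ξ' _ hne => ?_) (fun h => absurd (Finset.mem_univ _) h),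
      Characters.Core.classInner_smul_left, Characters.Core.classInner_irr_self ξ.2, mul_one]
    rw [Characters.Core.classInner_smul_left, Characters.Core.classInner_irr_ne ξ'.2 ξ.2
      (fun h => hne (Subtype.ext h)), mul_zero]
  have hsec : ∀ ζ ∈ principalBlock M G, ∀ y : H, ¬ 3 ∣ orderOf y → (ζ : G → ℂ) (u * (y : G)) =
      ∑ ξ with ξ ∈ principalBlock M H, (n ζ ξ : ℂ) * e ξ * (ξ : H → ℂ) y := by
    intro ζ hζ y hy
    have h7 := Blocks.CentralizerSum.sum_components hM u huk hH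
      Blocks.PrincipalSection.isPBlock_principalBlock
      (Blocks.PrincipalSection.mem_principalBlock_iff_induced hM u huk hH) y hy ζ
    rw [if_pos hζ] at h7
    rw [← h7]
    exact Finset.sum_congr rfl fun ξ _ => by rw [hinner]
  -- the coefficients
  obtain ⟨w, hw, hw1⟩ := exists_root
  have hlin : ∀ ξ : IrrCharacter H, ∃ a b : ℤ, ξ ∈ principalBlock M H → ∀ y : H, ¬ 3 ∣ orderOf y →
      (ξ : H → ℂ) y = (a : ℂ) + (b : ℂ) * (θ : H → ℂ) y := by
    intro ξ
    by_cases hξ : ξ ∈ principalBlock M H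
    · obtain ⟨a, b, h⟩ := hD.lin ξ hξ
      exact ⟨a, b, fun _ => h⟩
    · exact ⟨0, 0, fun h => absurd h hξ⟩
  choose a b hab using hlin
  set α : IrrCharacter G → ℂ := fun ζ => ∑ ξ with ξ ∈ principalBlock M H, (n ζ ξ : ℂ) * e ξ * a ξ with hα
  set β : IrrCharacter G → ℂ := fun ζ => ∑ ξ with ξ ∈ principalBlock M H, (n ζ ξ : ℂ) * e ξ * b ξ with hβ
  have hval : ∀ ζ ∈ principalBlock M G, ∀ y : H, ¬ 3 ∣ orderOf y → (ζ : G → ℂ) (u * (y : G)) =
      α ζ + β ζ * (θ : H → ℂ) y := by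
    intro ζ hζ y hy
    rw [hsec ζ hζ y hy, hα, hβ]
    simp only
    rw [Finset.sum_mul, ← Finset.sum_add_distrib]
    refine Finset.sum_congr rfl fun ξ hξ => ?_
    rw [hab ξ (Finset.mem_filter.1 hξ).2 y hy]
    ring
  have hEis : ∀ (c : IrrCharacter H → ℤ) (ζ : IrrCharacter G),
      Eis w (∑ ξ with ξ ∈ principalBlock M H, (n ζ ξ : ℂ) * e ξ * c ξ) := by
    intro c ζ
    refine Eis.sum _ _ fun ξ _ => ?_
    have h7 := (eis_of_cube hw (hE.root ξ)).int_mul ((n ζ ξ : ℤ) * c ξ)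
    have h8 : (((n ζ ξ : ℤ) * c ξ : ℤ) : ℂ) * e ξ = (n ζ ξ : ℂ) * e ξ * c ξ := by push_cast; ring
    rwa [h8] at h7
  -- the automorphism
  have hcu : ∀ x : G, x ∈ H ↔ x * u = u * x := fun x => by rw [hH, mem_centralizer_singleton_iff]
  have hgH : g ∈ normalizer (H : Set G) := by
    rw [mem_normalizer_iff]
    intro x
    rw [hcu, hcu]
    have h7 : g * x * g⁻¹ * u = g * (x * u⁻¹) * g⁻¹ := by
      have h8 : u = g * u⁻¹ * g⁻¹ := by
        have h9' := congrArg (fun z => z⁻¹) hg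
        simp only [mul_inv_rev, inv_inv] at h9'
        rw [← mul_assoc] at h9'
        exact h9'.symm
      conv_lhs => rw [h8]
      group
    have h7' : u * (g * x * g⁻¹) = g * (u⁻¹ * x) * g⁻¹ := by
      have h8 : u = g * u⁻¹ * g⁻¹ := by
        have h9' := congrArg (fun z => z⁻¹) hg
        simp only [mul_inv_rev, inv_inv] at h9'
        rw [← mul_assoc] at h9'
        exact h9'.symm
      conv_lhs => rw [h8]
      group
    rw [h7, h7']
    constructor
    · intro h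
      have h8 : x * u⁻¹ = u⁻¹ * x := (show Commute x u from h).inv_right
      rw [h8]
    · intro h
      have h8 : x * u⁻¹ = u⁻¹ * x := mul_left_cancel (mul_right_cancel h)
      have h9' := (show Commute x u⁻¹ from h8).inv_right
      rw [inv_inv] at h9'
      exact h9'
  set σ : H ≃* H := H652.PairBasic.conjAut H hgH with hσ
  have hσc : ∀ c : H, ((σ c : H) : G) = g * c * g⁻¹ := H652.PairBasic.conjAut_coe H hgH
  have hσu : σ ⟨u, huH⟩ ∈ zpowers (⟨u, huH⟩ : H) := by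
    refine ⟨-1, Subtype.ext ?_⟩
    rw [hσc]
    simp only [zpow_neg, zpow_one]
    exact hg.symm
  obtain ⟨y₀, hy₀, hne⟩ := hD.nconst
  have hone : ¬ 3 ∣ orderOf (1 : H) := by rw [orderOf_one]; norm_num
  have hreal : ∀ ζ ∈ principalBlock M G, α ζ = conj (α ζ) ∧ β ζ = conj (β ζ) := by
    intro ζ hζ
    have h7 : ∀ y : H, ¬ 3 ∣ orderOf y → α ζ + β ζ * (θ : H → ℂ) y = conj (α ζ) + conj (β ζ) * (θ : H → ℂ) y := by
      intro y hy
      have hyσ : ¬ 3 ∣ orderOf (σ y)⁻¹ := by rwa [orderOf_inv, MulEquiv.orderOf_eq]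
      have k1 : (ζ : G → ℂ) (u * (y : G)) = (ζ : G → ℂ) (u⁻¹ * ((σ y : H) : G)) := by
        rw [hσc, ← Characters.Core.isIrr_isClassFunction ζ.2 (u * (y : G)) g, ← hg]
        group
      have k2 : (u⁻¹ * ((σ y : H) : G))⁻¹ = u * (((σ y)⁻¹ : H) : G) := by
        rw [mul_inv_rev, inv_inv]
        have := (hcu _).1 ((σ y)⁻¹).2
        rw [← this]
        rfl
      have k3 : (ζ : G → ℂ) (u⁻¹ * ((σ y : H) : G)) = conj ((ζ : G → ℂ) (u * (((σ y)⁻¹ : H) : G))) := by
        rw [← k2, ← Characters.Core.isCharacter_apply_inv (Characters.Core.isIrr_isCharacter ζ.2), inv_inv]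
      rw [← hval ζ hζ y hy, k1, k3, hval ζ hζ _ hyσ, map_add, map_mul,
        ← Characters.Core.isCharacter_apply_inv (Characters.Core.isIrr_isCharacter θ.2), inv_inv,
        hD.inv σ hσu y]
    have h8 := h7 y₀ hy₀
    have h9' := h7 1 hone
    have h10 : (β ζ - conj (β ζ)) * ((θ : H → ℂ) y₀ - (θ : H → ℂ) 1) = 0 := by linear_combination h8 - h9'
    have h11 : β ζ = conj (β ζ) := by
      rcases mul_eq_zero.1 h10 with h | h
      · exact sub_eq_zero.1 h
      · exact absurd (sub_eq_zero.1 h) hne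
    refine ⟨?_, h11⟩
    rw [← h11] at h9'
    linear_combination h9'
  have hint : ∀ ζ : IrrCharacter G, ∃ A B : ℤ, ζ ∈ principalBlock M G → α ζ = A ∧ β ζ = B := by
    intro ζ
    by_cases hζ : ζ ∈ principalBlock M G
    · obtain ⟨A, hA⟩ := int_of_real hw1 (hEis a ζ) (hreal ζ hζ).1
      obtain ⟨B, hB⟩ := int_of_real hw1 (hEis b ζ) (hreal ζ hζ).2
      exact ⟨A, B, fun _ => ⟨hA, hB⟩⟩
    · exact ⟨0, 0, fun h => absurd h hζ⟩
  choose A B hAB using hint
  set S := (principalBlock M G).toFinset with hS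
  have hScard : S.card = 6 := by
    rw [← h6, Nat.card_eq_fintype_card, Set.toFinset_card]
  have hgram : ∀ y y' : H, ¬ 3 ∣ orderOf y → ¬ 3 ∣ orderOf y' →
      ((∑ ζ ∈ S, A ζ ^ 2 : ℤ) : ℂ) + ((∑ ζ ∈ S, A ζ * B ζ : ℤ) : ℂ) * ((θ : H → ℂ) y + conj ((θ : H → ℂ) y')) +
        ((∑ ζ ∈ S, B ζ ^ 2 : ℤ) : ℂ) * (θ : H → ℂ) y * conj ((θ : H → ℂ) y') =
      3 * (2 + (ε : ℂ) * ((θ : H → ℂ) y + conj ((θ : H → ℂ) y')) +
        2 * (θ : H → ℂ) y * conj ((θ : H → ℂ) y')) := by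
    intro y y' hy hy'
    rw [← hD.gram y y' hy hy', ← Blocks.PrincipalSection.sum_principalBlock_section hM u huk hH y y' hy hy',
      finsum_mem_eq_toFinset_sum, ← hS]
    push_cast
    rw [Finset.sum_mul, Finset.sum_mul, Finset.sum_mul, ← Finset.sum_add_distrib, ← Finset.sum_add_distrib]
    refine Finset.sum_congr rfl fun ζ hζ => ?_
    have hζ' := Set.mem_toFinset.1 hζ
    rw [hval ζ hζ' y hy, hval ζ hζ' y' hy', (hAB ζ hζ').1, (hAB ζ hζ').2]
    simp only [map_add, map_mul, map_intCast]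
    ring
  have hθ1 : (θ : H → ℂ) 1 = (charDegree (θ : H → ℂ) : ℂ) := Blocks.Basic.irr_one_eq_charDegree θ.2
  set SA : ℤ := ∑ ζ ∈ S, A ζ ^ 2 with hSA
  set SAB : ℤ := ∑ ζ ∈ S, A ζ * B ζ with hSAB
  set SB : ℤ := ∑ ζ ∈ S, B ζ ^ 2 with hSB
  set t := (θ : H → ℂ) y₀ with ht
  set d := (θ : H → ℂ) 1 with hd
  have hcd : conj d = d := by rw [hθ1, Complex.conj_natCast]
  have htd : t - d ≠ 0 := sub_ne_zero.2 hne
  have g1 := hgram y₀ y₀ hy₀ hy₀
  have g2 := hgram y₀ 1 hy₀ hone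
  have g3 := hgram 1 y₀ hone hy₀
  have g4 := hgram 1 1 hone hone
  rw [← ht] at g1 g2 g3
  rw [← hd] at g2 g3 g4
  rw [hcd] at g2 g4
  have htd' : conj t - d ≠ 0 := by
    intro h
    apply htd
    have h7 := congrArg (starRingEnd ℂ) h
    rw [map_sub, map_zero, Complex.conj_conj, hcd] at h7
    exact h7
  have e1 : ((SAB : ℂ) - 3 * ε) + ((SB : ℂ) - 6) * conj t = 0 := by
    apply mul_left_cancel₀ htd
    linear_combination g1 - g3
  have e2 : ((SAB : ℂ) - 3 * ε) + ((SB : ℂ) - 6) * d = 0 := by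
    apply mul_left_cancel₀ htd
    linear_combination g2 - g4
  have e3 : (SB : ℂ) = 6 := by
    have : ((SB : ℂ) - 6) = 0 := by
      apply mul_left_cancel₀ htd'
      linear_combination e1 - e2
    linear_combination this
  have e4 : (SAB : ℂ) = 3 * ε := by
    rw [e3] at e2
    linear_combination e2
  have e5 : (SA : ℂ) = 6 := by
    rw [e3, e4] at g4
    linear_combination g4
  refine six_sign S hScard A B hD.sgn (by exact_mod_cast e5) (by exact_mod_cast e3) (by exact_mod_cast e4) ?_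
  intro ζ hζ hdvd
  have hζ' := Set.mem_toFinset.1 hζ
  -- the value at `u`
  have k1 := hval ζ hζ' 1 hone
  rw [(hAB ζ hζ').1, (hAB ζ hζ').2, ← hd, hθ1, OneMemClass.coe_one, mul_one] at k1
  have k2 := CharactersDeep.ModCongr.memLocalIdeal_character_sub hM ζ.2 u u ⟨1, by rw [mul_one], Commute.one_right u,
    ⟨1, by rw [hu, pow_one]⟩, by rw [orderOf_one]; norm_num⟩
  rw [inv_mul_cancel, k1, Blocks.Basic.irr_one_eq_charDegree ζ.2] at k2
  have k3 : (A ζ : ℂ) + (B ζ : ℂ) * (charDegree (θ : H → ℂ) : ℂ) - (charDegree (ζ : G → ℂ) : ℂ) =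
      ((A ζ + B ζ * charDegree (θ : H → ℂ) - charDegree (ζ : G → ℂ) : ℤ) : ℂ) := by push_cast; ring
  rw [k3, Blocks.Local.memLocalIdeal_intCast_iff hM] at k2
  apply hdeg ζ hζ'
  have k4 : (3 : ℤ) ∣ (charDegree (θ : H → ℂ) : ℤ) - ε := (Int.modEq_iff_dvd.1 hD.deg.symm)
  have k5 : (3 : ℤ) ∣ (charDegree (ζ : G → ℂ) : ℤ) := by
    have k6 : (charDegree (ζ : G → ℂ) : ℤ) = (A ζ + ε * B ζ) + B ζ * ((charDegree (θ : H → ℂ) : ℤ) - ε) -
        (A ζ + B ζ * charDegree (θ : H → ℂ) - charDegree (ζ : G → ℂ)) := by ring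
    rw [k6]
    exact Int.dvd_sub (Int.dvd_add hdvd (Dvd.dvd.mul_left k4 _)) k2
  exact_mod_cast k5

end Cfsg.Agent.H774.P9
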