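import Cfsg.Agent.H734.KB.Crit
import Cfsg.Agent.S4696
import Cfsg.Agent.S4646

/-!
# Principal blocks of groups with Sylow `3`-subgroups of order three (helper774)
-/

set_option autoImplicit false

open Cfsg Subgroup

namespace Cfsg.Agent.H774.P9

universe u

/-- the structure of the principal block with cyclic Sylow subgroups -/
theorem cyc_principal {G : Type u} [Group G] [Finite G] {p : ℕ} [Fact p.Prime] {M : Ideal AlgInt}
    (hM : IsPModular p M) (P : Sylow p G) (hc : IsCyclic P) (a : ℕ) (ha1 : 1 ≤ a) (ha : Nat.card P = p ^ a)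
    (e : ℕ) (he : (centralizer ((P : Subgroup G) : Set G)).relIndex (normalizer ((P : Subgroup G) : Set G)) = e) :
    e ∣ p - 1 ∧ (∀ χ ∈ principalBlock M G, blockHeight p (principalBlock M G) (χ : G → ℂ) = 0) ∧
      ∃ X Y : Set (IrrCharacter G), principalBlock M G = X ∪ Y ∧ Disjoint X Y ∧ Nat.card X = e ∧
      Nat.card Y = (p ^ a - 1) / e ∧
      (∀ ψ ∈ Y, ∀ ψ' ∈ Y, ∀ g : G, ¬ p ∣ orderOf g → (ψ : G → ℂ) g = (ψ' : G → ℂ) g) ∧
      ∃ (δ : IrrCharacter G → ℤ) (δ₀ : ℤ), (∀ χ ∈ X, δ χ = 1 ∨ δ χ = -1) ∧ (δ₀ = 1 ∨ δ₀ = -1) ∧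
      (∀ ψ ∈ Y, ∀ g : G, ¬ p ∣ orderOf g → (δ₀ : ℂ) * (ψ : G → ℂ) g + ∑ᶠ χ ∈ X, (δ χ : ℂ) * (χ : G → ℂ) g = 0) := by
  classical
  have hp : p.Prime := Fact.out
  have := Fintype.ofFinite G
  have hMp := Cfsg.Agent.Blocks.Local.isPrime_of_isPModular hM
  have hPC : (P : Subgroup G) ≤ centralizer ((P : Subgroup G) : Set G) := fun x hx =>
    mem_centralizer_iff.2 fun y hy =>
      congrArg Subtype.val ((IsCyclic.commGroup (α := (P : Subgroup G))).mul_comm ⟨y, hy⟩ ⟨x, hx⟩)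
  have hB : IsPBlock M (principalBlock M G) := Blocks.PrincipalSection.isPBlock_principalBlock
  have hBD : IsDefectGroup p M (principalBlock M G) (P : Subgroup G) := (S4652.result p M hM _).2 ⟨P, rfl⟩
  have hb : IsPBlock M (principalBlock M (centralizer ((P : Subgroup G) : Set G))) :=
    Blocks.PrincipalSection.isPBlock_principalBlock
  have hdef : InducedBlockDefined M (centralizer ((P : Subgroup G) : Set G))
      (principalBlock M (centralizer ((P : Subgroup G) : Set G))) :=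
    S0919.result p M hM (P : Subgroup G) _ P.2 hPC le_rfl (centralizer_le_normalizer _) _ hb
  have hind : IsInducedBlock M (centralizer ((P : Subgroup G) : Set G))
      (principalBlock M (centralizer ((P : Subgroup G) : Set G))) (principalBlock M G) :=
    (S0936.result p M hM _ _ hdef).2 rfl
  have hT : ∀ g : G, g ∈ normalizer ((P : Subgroup G) : Set G) ↔
      (g ∈ normalizer ((P : Subgroup G) : Set G) ∧
        ∀ θ ∈ principalBlock M (centralizer ((P : Subgroup G) : Set G)),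
          ∀ θ' : IrrCharacter (centralizer ((P : Subgroup G) : Set G)),
            (∀ h h' : centralizer ((P : Subgroup G) : Set G), (h' : G) = g * h * g⁻¹ →
              (θ' : centralizer ((P : Subgroup G) : Set G) → ℂ) h' =
                (θ : centralizer ((P : Subgroup G) : Set G) → ℂ) h) →
            θ' ∈ principalBlock M (centralizer ((P : Subgroup G) : Set G))) := by
    intro g
    refine ⟨fun hg => ⟨hg, fun θ hθ θ' h => ?_⟩, fun h => h.1⟩
    have hmem : ∀ g : G, g ∈ normalizer ((P : Subgroup G) : Set G) →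
        ∀ c ∈ centralizer ((P : Subgroup G) : Set G), g * c * g⁻¹ ∈ centralizer ((P : Subgroup G) : Set G) := by
      intro g hg c hc
      rw [mem_centralizer_iff] at hc ⊢
      intro x hx
      have h1 : g⁻¹ * x * g ∈ (P : Subgroup G) := by
        have := (mem_normalizer_iff.1 (inv_mem hg) x).1 hx
        rwa [inv_inv] at this
      have h2 := hc _ h1
      calc x * (g * c * g⁻¹) = g * ((g⁻¹ * x * g) * c) * g⁻¹ := by group
        _ = g * (c * (g⁻¹ * x * g)) * g⁻¹ := by rw [h2]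
        _ = g * c * g⁻¹ * x := by group
    let φ : centralizer ((P : Subgroup G) : Set G) ≃* centralizer ((P : Subgroup G) : Set G) :=
      { toFun := fun c => ⟨g * c * g⁻¹, hmem g hg c c.2⟩
        invFun := fun c => ⟨g⁻¹ * c * (g⁻¹)⁻¹, hmem g⁻¹ (inv_mem hg) c c.2⟩
        left_inv := fun c => Subtype.ext (by change g⁻¹ * (g * c * g⁻¹) * (g⁻¹)⁻¹ = c; group)
        right_inv := fun c => Subtype.ext (by change g * (g⁻¹ * c * (g⁻¹)⁻¹) * g⁻¹ = c; group)
        map_mul' := fun c d => Subtype.ext (by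
          change g * (c * d) * g⁻¹ = (g * c * g⁻¹) * (g * d * g⁻¹); group) }
    exact Cfsg.Agent.H736.S4790.mem_principal_of_equiv φ hθ fun c => h c (φ c) rfl
  obtain ⟨h1, h2, X, Y, h3, h4, h5, h6, h7, δ, δ₀, h8, h9, h10, -⟩ :=
    S4696.result p M hM (P : Subgroup G) hc a ha1 ha (principalBlock M G) hB hBD _ hind
      (normalizer ((P : Subgroup G) : Set G)) hT e he
  exact ⟨h1, h2, X, Y, h3, h4, h5, h6, h7, δ, δ₀, h8, h9, h10⟩

/-- the trivial character -/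
abbrev tr (K : Type u) [Group K] : IrrCharacter K := ⟨fun _ => 1, Blocks.Basic.isIrrCharacter_one⟩

/-- a Sylow subgroup of order `p` whose normalizer centralizes it gives a normal complement -/
theorem compl_of_relIndex {K : Type u} [Group K] [Finite K] {p : ℕ} [Fact p.Prime] (Q : Sylow p K)
    (hab : (Q : Subgroup K) ≤ centralizer ((Q : Subgroup K) : Set K))
    (h : (centralizer ((Q : Subgroup K) : Set K)).relIndex (normalizer ((Q : Subgroup K) : Set K)) = 1) :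
    HasNormalPComplement p K := by
  have h1 : normalizer ((Q : Subgroup K) : Set K) ≤ centralizer ((Q : Subgroup K) : Set K) := relIndex_eq_one.1 h
  exact ⟨Q, _, inferInstance, MonoidHom.ker_transferSylow_isComplement' Q h1⟩

/-- **The principal block of a group with Sylow `3`-subgroup of order three.** -/
theorem three_block {K : Type u} [Group K] [Finite K] {M : Ideal AlgInt} (hM : IsPModular 3 M)
    (Q : Sylow 3 K) (hQ : Nat.card Q = 3) (hnil : ¬ HasNormalPComplement 3 K) :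
    ∃ (θ₁ θ₂ : IrrCharacter K) (ε₁ ε₂ : ℤ), θ₁ ≠ tr K ∧ θ₂ ≠ tr K ∧ θ₁ ≠ θ₂ ∧
      principalBlock M K = {tr K, θ₁, θ₂} ∧ (ε₁ = 1 ∨ ε₁ = -1) ∧ (ε₂ = 1 ∨ ε₂ = -1) ∧
      (∀ y : K, ¬ 3 ∣ orderOf y → 1 + (ε₁ : ℂ) * (θ₁ : K → ℂ) y + (ε₂ : ℂ) * (θ₂ : K → ℂ) y = 0) ∧
      ((charDegree (θ₁ : K → ℂ) : ℤ) ≡ ε₁ [ZMOD 3]) ∧ (∃ y : K, ¬ 3 ∣ orderOf y ∧ (θ₁ : K → ℂ) y ≠ (θ₁ : K → ℂ) 1) := by
  classical
  have hp3 : Fact (Nat.Prime 3) := ⟨Nat.prime_three⟩
  have hMp := Cfsg.Agent.Blocks.Local.isPrime_of_isPModular hM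
  have := Characters.Core.finite_irr (G := K)
  have hcyc : IsCyclic Q := isCyclic_of_prime_card hQ
  have hab : (Q : Subgroup K) ≤ centralizer ((Q : Subgroup K) : Set K) := fun x hx =>
    mem_centralizer_iff.2 fun y hy =>
      congrArg Subtype.val ((IsCyclic.commGroup (α := (Q : Subgroup K))).mul_comm ⟨y, hy⟩ ⟨x, hx⟩)
  set e := (centralizer ((Q : Subgroup K) : Set K)).relIndex (normalizer ((Q : Subgroup K) : Set K)) with he
  have he1 : e ≠ 1 := fun h => hnil (compl_of_relIndex Q hab (he ▸ h))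
  obtain ⟨hd, hh, X, Y, hXY, hdis, hX, hY, hYc, δ, δ₀, hδ, hδ₀, hrel⟩ :=
    cyc_principal hM Q hcyc 1 le_rfl (by rw [hQ, pow_one]) e rfl
  have he2 : e = 2 := by
    have h1 : e ∣ 2 := hd
    rcases (Nat.dvd_prime Nat.prime_two).1 h1 with h | h
    · exact absurd h he1
    · exact h
  have hdeg := (S0960.result 3 M hM (by norm_num) Q hQ 2 (he ▸ he2)).2
  have hcard := (S0960.result 3 M hM (by norm_num) Q hQ 2 (he ▸ he2)).1
  rw [he2] at hX hY
  replace hY : Nat.card Y = 1 := by rw [hY]; norm_num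
  clear hcard
  -- the element of `Y`
  obtain ⟨hYs, ⟨ψ⟩⟩ := Nat.card_eq_one_iff_unique.1 hY
  have hYe : ∀ χ ∈ Y, χ = ψ := fun χ hχ => congrArg Subtype.val (hYs.elim ⟨χ, hχ⟩ ψ)
  obtain ⟨x₁, x₂, hx12, hXe⟩ : ∃ x₁ x₂ : IrrCharacter K, x₁ ≠ x₂ ∧ X = {x₁, x₂} := by
    have h1 : X.ncard = 2 := hX
    exact Set.ncard_eq_two.1 h1
  have hψX : (ψ : IrrCharacter K) ∉ X := fun h => (Set.disjoint_left.1 hdis h ψ.2)
  -- the sum over `X`
  have hsumX : ∀ g : K, ∑ᶠ χ ∈ X, (δ χ : ℂ) * (χ : K → ℂ) g =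
      (δ x₁ : ℂ) * (x₁ : K → ℂ) g + (δ x₂ : ℂ) * (x₂ : K → ℂ) g := by
    intro g
    rw [hXe, finsum_mem_pair hx12]
  have hB : principalBlock M K = {x₁, x₂, (ψ : IrrCharacter K)} := by
    rw [hXY, hXe]
    ext χ
    simp only [Set.mem_union, Set.mem_insert_iff, Set.mem_singleton_iff]
    constructor
    · rintro ((h | h) | h)
      · exact Or.inl h
      · exact Or.inr (Or.inl h)
      · exact Or.inr (Or.inr (hYe χ h))
    · rintro (h | h | h)
      · exact Or.inl (Or.inl h)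
      · exact Or.inl (Or.inr h)
      · exact Or.inr (h ▸ ψ.2)
  have hx1ψ : x₁ ≠ (ψ : IrrCharacter K) := fun h => hψX (by rw [← h, hXe]; simp)
  have hx2ψ : x₂ ≠ (ψ : IrrCharacter K) := fun h => hψX (by rw [← h, hXe]; simp)
  have hδ1 : δ x₁ = 1 ∨ δ x₁ = -1 := hδ x₁ (by rw [hXe]; simp)
  have hδ2 : δ x₂ = 1 ∨ δ x₂ = -1 := hδ x₂ (by rw [hXe]; simp)
  have hrel' : ∀ g : K, ¬ 3 ∣ orderOf g → (δ₀ : ℂ) * (ψ : K → ℂ) g + ((δ x₁ : ℂ) * (x₁ : K → ℂ) g +
      (δ x₂ : ℂ) * (x₂ : K → ℂ) g) = 0 := by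
    intro g hg
    have h1 := hrel ψ ψ.2 g hg
    rwa [hsumX] at h1
  -- a symmetric form: three distinct characters with a relation
  have key : ∃ (χ₁ χ₂ : IrrCharacter K) (s₀ s₁ s₂ : ℤ), χ₁ ≠ tr K ∧ χ₂ ≠ tr K ∧ χ₁ ≠ χ₂ ∧
      principalBlock M K = {tr K, χ₁, χ₂} ∧ (s₀ = 1 ∨ s₀ = -1) ∧ (s₁ = 1 ∨ s₁ = -1) ∧ (s₂ = 1 ∨ s₂ = -1) ∧
      ∀ y : K, ¬ 3 ∣ orderOf y → (s₀ : ℂ) + (s₁ : ℂ) * (χ₁ : K → ℂ) y + (s₂ : ℂ) * (χ₂ : K → ℂ) y = 0 := by
    have h1 : tr K ∈ principalBlock M K := Blocks.PrincipalSection.one_mem_principalBlock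
    rw [hB] at h1
    simp only [Set.mem_insert_iff, Set.mem_singleton_iff] at h1
    rcases h1 with h1 | h1 | h1
    · refine ⟨x₂, ψ, δ x₁, δ x₂, δ₀, ?_, ?_, hx2ψ, ?_, hδ1, hδ2, hδ₀, ?_⟩
      · rw [h1]; exact hx12.symm
      · rw [h1]; exact hx1ψ.symm
      · rw [hB, h1]
      · intro y hy
        have h2 := hrel' y hy
        have h3 : (x₁ : K → ℂ) y = 1 := by rw [← h1]
        rw [h3] at h2
        linear_combination h2
    · refine ⟨x₁, ψ, δ x₂, δ x₁, δ₀, ?_, ?_, hx1ψ, ?_, hδ2, hδ1, hδ₀, ?_⟩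
      · rw [h1]; exact hx12
      · rw [h1]; exact hx2ψ.symm
      · rw [hB, h1, Set.insert_comm]
      · intro y hy
        have h2 := hrel' y hy
        have h3 : (x₂ : K → ℂ) y = 1 := by rw [← h1]
        rw [h3] at h2
        linear_combination h2
    · refine ⟨x₁, x₂, δ₀, δ x₁, δ x₂, ?_, ?_, hx12, ?_, hδ₀, hδ1, hδ2, ?_⟩
      · rw [h1]; exact hx1ψ
      · rw [h1]; exact hx2ψ
      · rw [hB, h1]
        ext χ
        simp only [Set.mem_insert_iff, Set.mem_singleton_iff]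
        tauto
      · intro y hy
        have h2 := hrel' y hy
        have h3 : ((ψ : IrrCharacter K) : K → ℂ) y = 1 := by rw [← h1]
        rw [h3] at h2
        linear_combination h2
  obtain ⟨χ₁, χ₂, s₀, s₁, s₂, h1, h2, h3, hBe, hs0, hs1, hs2, hr⟩ := key
  have hs00 : (s₀ : ℂ) * s₀ = 1 := by rcases hs0 with rfl | rfl <;> norm_num
  have hr' : ∀ y : K, ¬ 3 ∣ orderOf y → 1 + ((s₀ * s₁ : ℤ) : ℂ) * (χ₁ : K → ℂ) y +
      ((s₀ * s₂ : ℤ) : ℂ) * (χ₂ : K → ℂ) y = 0 := by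
    intro y hy
    push_cast
    linear_combination (s₀ : ℂ) * hr y hy - hs00
  have hm1 : χ₁ ∈ principalBlock M K := by rw [hBe]; simp
  have hm2 : χ₂ ∈ principalBlock M K := by rw [hBe]; simp
  have hsg1 : s₀ * s₁ = 1 ∨ s₀ * s₁ = -1 := by
    rcases hs0 with rfl | rfl <;> rcases hs1 with rfl | rfl <;> norm_num
  have hsg2 : s₀ * s₂ = 1 ∨ s₀ * s₂ = -1 := by
    rcases hs0 with rfl | rfl <;> rcases hs2 with rfl | rfl <;> norm_num
  have hone : ¬ 3 ∣ orderOf (1 : K) := by rw [orderOf_one]; norm_num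
  refine ⟨χ₁, χ₂, s₀ * s₁, s₀ * s₂, h1, h2, h3, hBe, hsg1, hsg2, hr', ?_, ?_⟩
  · -- degrees
    have h4 := hr' 1 hone
    rw [Blocks.Basic.irr_one_eq_charDegree χ₁.2, Blocks.Basic.irr_one_eq_charDegree χ₂.2] at h4
    have h5 : 1 + (s₀ * s₁) * (charDegree (χ₁ : K → ℂ) : ℤ) + (s₀ * s₂) * (charDegree (χ₂ : K → ℂ) : ℤ) = 0 := by
      exact_mod_cast h4
    have h6 : (charDegree (χ₁ : K → ℂ) : ℤ) % 3 = 1 ∨ (charDegree (χ₁ : K → ℂ) : ℤ) % 3 = 2 := by
      have := hdeg χ₁ hm1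
      unfold Int.ModEq at this
      omega
    have h7 : (charDegree (χ₂ : K → ℂ) : ℤ) % 3 = 1 ∨ (charDegree (χ₂ : K → ℂ) : ℤ) % 3 = 2 := by
      have := hdeg χ₂ hm2
      unfold Int.ModEq at this
      omega
    unfold Int.ModEq
    rcases hsg1 with h8 | h8 <;> rcases hsg2 with h9 | h9 <;> rw [h8, h9] at h5 <;> rw [h8] <;> omega
  · -- not constant
    by_contra hcon
    push Not at hcon
    have := Fintype.ofFinite K
    apply hnil
    apply S4646.compl_of_rank_one hM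
    have hpos := H634.Cols.blockRank_pos (G := K) (p := 3) hM
    refine le_antisymm ?_ hpos
    have hcon2 : ∀ y : K, ¬ 3 ∣ orderOf y → (χ₂ : K → ℂ) y = (χ₂ : K → ℂ) 1 := by
      intro y hy
      have h4 := hr' y hy
      have h5 := hr' 1 hone
      rw [hcon y hy] at h4
      have h6 : ((s₀ * s₂ : ℤ) : ℂ) ≠ 0 := by
        rcases hsg2 with h | h <;> rw [h] <;> norm_num
      apply mul_left_cancel₀ h6
      linear_combination h4 - h5
    have hconst : ∀ χ ∈ principalBlock M K, ∀ y : K, ¬ 3 ∣ orderOf y → (χ : K → ℂ) y = (χ : K → ℂ) 1 := by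
      intro χ hχ
      rw [hBe] at hχ
      simp only [Set.mem_insert_iff, Set.mem_singleton_iff] at hχ
      rcases hχ with rfl | rfl | rfl
      · intro y _; rfl
      · exact hcon
      · exact hcon2
    unfold blockRank
    set f : K → ℂ := pRegularPart 3 (fun _ => (1 : ℂ)) with hf
    have hle : Submodule.span ℂ ((fun χ : IrrCharacter K => pRegularPart 3 (χ : K → ℂ)) '' principalBlock M K) ≤
        Submodule.span ℂ {f} := by
      rw [Submodule.span_le]
      rintro _ ⟨χ, hχ, rfl⟩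
      rw [SetLike.mem_coe, Submodule.mem_span_singleton]
      refine ⟨(χ : K → ℂ) 1, ?_⟩
      funext y
      rw [Pi.smul_apply, smul_eq_mul, hf]
      change (χ : K → ℂ) 1 * pRegularPart 3 (fun _ => (1 : ℂ)) y = pRegularPart 3 (χ : K → ℂ) y
      unfold pRegularPart
      by_cases hy : IsPRegular 3 y
      · rw [if_pos hy, if_pos hy, mul_one]
        exact (hconst χ hχ y hy).symm
      · rw [if_neg hy, if_neg hy, mul_zero]
    refine (Submodule.finrank_mono hle).trans ?_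
    have h9 := finrank_span_le_card (R := ℂ) ({f} : Set (K → ℂ))
    simpa using h9

end Cfsg.Agent.H774.P9
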